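import Cfsg.Agent.Lib.Linear.ExtField.Basic
import Cfsg.Agent.Lib.Linear.UTensor.Alg

/-!
# Hermitian spaces over an extension of odd degree inside those over the ground field

`h` is a Hermitian `K`-form and `B` its trace.  A group of isometries of `B` containing the special
unitary group of `h`: root elements, a torus and transitivity.
-/

set_option autoImplicit false
set_option linter.unusedSectionVars false

namespace Cfsg.Lib.Linear.UExt

open Module
open Cfsg.Lib.Linear
open Cfsg.Lib.Linear.ExtField (InG)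

variable {F K V : Type*} [Field F] [Finite F] [Field K] [Finite K] [Algebra F K] [FiniteDimensional F K]
  [AddCommGroup V] [Module F V] [Module K V] [IsScalarTower F K V] [FiniteDimensional F V] [FiniteDimensional K V]
  {σ : F →+* F} {ρ : K →+* K} {B : V →ₛₗ[σ] V →ₗ[F] F} {h : V →ₛₗ[ρ] V →ₗ[K] K}
  {G : Subgroup (V ≃ₗ[F] V)}

/-- The trace of a non-degenerate Hermitian form over the extension, in dimension at least two. -/
structure Data (B : V →ₛₗ[σ] V →ₗ[F] F) (h : V →ₛₗ[ρ] V →ₗ[K] K) : Prop where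
  cB : UTensor.Form B
  ch : UTensor.Form h
  tr : ∀ x y, B x y = Algebra.trace F K (h x y)
  compat : ∀ a : F, ρ (algebraMap F K a) = algebraMap F K (σ a)
  tr_conj : ∀ k : K, Algebra.trace F K (ρ k) = σ (Algebra.trace F K k)
  prime : (finrank F K).Prime
  dim : 2 ≤ finrank K V

/-- A group of isometries containing the special unitary group of the extension. -/
structure Over (B : V →ₛₗ[σ] V →ₗ[F] F) (h : V →ₛₗ[ρ] V →ₗ[K] K) (G : Subgroup (V ≃ₗ[F] V)) : Prop where
  isom : ∀ g ∈ G, ∀ x y, B (g x) (g y) = B x y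
  klin : ∀ f : V ≃ₗ[K] V, f ∈ Herm.iso h → LinearEquiv.det f = 1 → f.restrictScalars F ∈ G
  moved : ∃ g ∈ G, ∃ (u : V) (k : K), h u u = 0 ∧ g (k • u) ∉ K ∙ g u

/-- The root map at a vector. -/
def root (h : V →ₛₗ[ρ] V →ₗ[K] K) (v : V) (a : K) : V →ₗ[F] V :=
  ((a • h v).smulRight v).restrictScalars F

@[simp] theorem root_apply (v x : V) (a : K) : root (F := F) h v a x = (a * h v x) • v := rfl

/-- The transvection map. -/
def tvm (B : V →ₛₗ[σ] V →ₗ[F] F) (l : F) (v : V) : V →ₗ[F] V := (l • B v).smulRight v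

@[simp] theorem tvm_apply (v x : V) (l : F) : tvm B l v x = (l * B v x) • v := rfl

/-- The Eichler map of two vectors. -/
def eich (B : V →ₛₗ[σ] V →ₗ[F] F) (e w : V) : V →ₗ[F] V := (B e).smulRight w - (B w).smulRight e

@[simp] theorem eich_apply (e w x : V) : eich B e w x = B e x • w - B w x • e := rfl

namespace Data

variable (D : Data B h)
include D

theorem invK (k : K) : ρ (ρ k) = k := D.ch.invol k

theorem smul_left (k : K) (x y : V) : B (k • x) y = Algebra.trace F K (ρ k * h x y) := by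
  rw [D.tr, LinearMap.map_smulₛₗ, LinearMap.smul_apply, smul_eq_mul]

theorem smul_right (k : K) (x y : V) : B x (k • y) = Algebra.trace F K (k * h x y) := by
  rw [D.tr, map_smul, smul_eq_mul]

theorem trace_mul_algebraMap (c : F) (k : K) :
    Algebra.trace F K (k * algebraMap F K c) = Algebra.trace F K k * c := by
  rw [mul_comm, ← Algebra.smul_def, map_smul, smul_eq_mul, mul_comm]

theorem ext_trace {a b : K} (e : ∀ k, Algebra.trace F K (ρ k * a) = Algebra.trace F K (ρ k * b)) : a = b := by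
  refine sub_eq_zero.1 ((traceForm_nondegenerate F K).1 _ fun k => ?_)
  rw [Algebra.traceForm_apply, mul_comm, mul_sub, map_sub]
  have := e (ρ k)
  rw [D.invK] at this
  rw [this, sub_self]

theorem trace_fixed {c : K} (hc : ρ c = c) : σ (Algebra.trace F K c) = Algebra.trace F K c := by
  rw [← D.tr_conj, hc]

theorem exists_anti : ∃ η : F, η ≠ 0 ∧ σ η = -η := by
  obtain ⟨y, hy0, hy⟩ := Herm.exists_trace_zero D.cB.ne_id D.cB.invol
  exact ⟨y, hy0, by linear_combination hy⟩

/-- The real elements span. -/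
theorem mem_real_span (k : K) : k ∈ Submodule.span F {c : K | ρ c = c} := by
  obtain ⟨z, hz⟩ := D.cB.exists_not_fixed
  set e := algebraMap F K z with he
  have he' : ρ e = algebraMap F K (σ z) := D.compat z
  have hne : e - ρ e ≠ 0 := by
    rw [he', he, ← map_sub]
    exact fun h => (sub_ne_zero.2 hz.symm) ((algebraMap F K).injective (by rw [h, map_zero]))
  set A := k + ρ k
  set C := e * k + ρ e * ρ k
  have hA : ρ A = A := by simp only [A, map_add, D.invK]; ring
  have hC : ρ C = C := by simp only [C, map_add, map_mul, D.invK]; ring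
  have hk : k = (z - σ z)⁻¹ • C - ((z - σ z)⁻¹ * σ z) • A := by
    simp only [Algebra.smul_def, map_mul, map_inv₀, map_sub, ← he', ← he, A, C]
    field_simp
    ring
  rw [hk]
  exact sub_mem (Submodule.smul_mem _ _ (Submodule.subset_span hC))
    (Submodule.smul_mem _ _ (Submodule.subset_span hA))

/-- Real elements of trace zero span the kernel of the trace. -/
theorem mem_real_span_zero {k : K} (hk : Algebra.trace F K k = 0) :
    k ∈ Submodule.span F {c : K | ρ c = c ∧ Algebra.trace F K c = 0} := by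
  obtain ⟨z, hz⟩ := D.cB.exists_not_fixed
  set e := algebraMap F K z with he
  have he' : ρ e = algebraMap F K (σ z) := D.compat z
  have hne : e - ρ e ≠ 0 := by
    rw [he', he, ← map_sub]
    exact fun h => (sub_ne_zero.2 hz.symm) ((algebraMap F K).injective (by rw [h, map_zero]))
  set A := k + ρ k
  set C := e * k + ρ e * ρ k
  have hA : ρ A = A ∧ Algebra.trace F K A = 0 := by
    refine ⟨by simp only [A, map_add, D.invK]; ring, ?_⟩
    rw [map_add, D.tr_conj, hk, map_zero, add_zero]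
  have hC : ρ C = C ∧ Algebra.trace F K C = 0 := by
    refine ⟨by simp only [C, map_add, map_mul, D.invK]; ring, ?_⟩
    rw [map_add, ← map_mul, D.tr_conj, he, ← Algebra.smul_def, map_smul, hk, smul_zero, map_zero, add_zero]
  have hk' : k = (z - σ z)⁻¹ • C - ((z - σ z)⁻¹ * σ z) • A := by
    simp only [Algebra.smul_def, map_mul, map_inv₀, map_sub, ← he', ← he, A, C]
    field_simp
    ring
  rw [hk']
  exact sub_mem (Submodule.smul_mem _ _ (Submodule.subset_span hC))
    (Submodule.smul_mem _ _ (Submodule.subset_span hA))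

theorem exists_real_trace_one : ∃ c : K, ρ c = c ∧ Algebra.trace F K c = 1 := by
  by_contra hcon
  obtain ⟨k, hk⟩ := Algebra.trace_surjective F K 1
  have hz : ∀ c : K, ρ c = c → Algebra.trace F K c = 0 := fun c hc => by
    by_contra h0
    refine hcon ⟨(Algebra.trace F K c)⁻¹ • c, ?_, by rw [map_smul, smul_eq_mul, inv_mul_cancel₀ h0]⟩
    rw [Algebra.smul_def, map_mul, D.compat, hc, map_inv₀ σ, D.trace_fixed hc]
  have : Algebra.trace F K k = 0 :=
    (Submodule.span_le (p := LinearMap.ker (Algebra.trace F K))).2 (fun c hc => hz c hc) (D.mem_real_span k)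
  rw [hk] at this
  exact one_ne_zero this

theorem exists_real_trace_zero : ∃ d : K, d ≠ 0 ∧ ρ d = d ∧ Algebra.trace F K d = 0 := by
  have h1 := (Algebra.trace F K).finrank_range_add_finrank_ker
  rw [LinearMap.range_eq_top.2 (Algebra.trace_surjective F K), finrank_top, finrank_self] at h1
  have := D.prime.two_le
  obtain ⟨k, hk, hk0⟩ := (Submodule.ne_bot_iff _).1
    (show LinearMap.ker (Algebra.trace F K) ≠ ⊥ from fun e => by rw [e, finrank_bot] at h1; omega)
  by_contra hcon
  push Not at hcon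
  refine hk0 ?_
  have := (Submodule.span_le (p := (⊥ : Submodule F K))).2 (fun c hc => by
    simp only [SetLike.mem_coe, Submodule.mem_bot]
    by_contra hc0
    exact hcon c hc0 hc.1 hc.2) (D.mem_real_span_zero (LinearMap.mem_ker.1 hk))
  simpa using this

/-- A dual vector. -/
theorem exists_dual {p e : V} (hp : p ∉ K ∙ e) : ∃ q, h q p = 1 ∧ h q e = 0 := by
  obtain ⟨φ, hφp, hφ⟩ := Submodule.exists_dual_map_eq_bot_of_notMem hp inferInstance
  obtain ⟨q, hq⟩ := Herm.exists_eq_apply D.ch.invol D.ch.ndeg ((φ p)⁻¹ • φ)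
  refine ⟨q, by rw [hq, LinearMap.smul_apply, smul_eq_mul, inv_mul_cancel₀ hφp], ?_⟩
  have : φ e ∈ (K ∙ e).map φ := ⟨e, Submodule.mem_span_singleton_self e, rfl⟩
  rw [hφ, Submodule.mem_bot] at this
  rw [hq, LinearMap.smul_apply, this, smul_zero]

end Data

namespace Over

variable (hG : Over B h G)
include hG

theorem roots (D : Data B h) {v : V} (hv : h v v = 0) {a : K} (ha : ρ a = -a) : InG G (root h v a) := by
  have he : a + ρ a + ρ a * a * h v v = 0 := by rw [hv, mul_zero, ha]; ring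
  exact ⟨_, hG.klin (Herm.qrefl v a he) (Herm.qrefl_mem_iso D.ch.symm v a he)
    (Units.ext (by rw [Herm.det_qrefl, hv, mul_zero, add_zero]; rfl)), fun x => rfl⟩

theorem move_iso (D : Data B h) (h3 : 3 ≤ finrank K V) {x y : V} (hx : x ≠ 0) (hy : y ≠ 0) (hxx : h x x = 0) (hyy : h y y = 0) :
    ∃ M ∈ G, M x = y := by
  obtain ⟨f, hf, hd, hfx⟩ := D.ch.exists_su_map_iso h3 hx hy hxx hyy
  exact ⟨_, hG.klin f hf hd, hfx⟩

theorem move_aniso (D : Data B h) {x y : V} (hxx : h x x ≠ 0) (hxy : h x x = h y y) : ∃ M ∈ G, M x = y := by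
  obtain ⟨f, hf, hd, hfx⟩ := D.ch.exists_su_map_aniso (by have := D.dim; omega) hxx hxy
  exact ⟨_, hG.klin f hf hd, hfx⟩

/-- An element scaling `p` and fixing `e`. -/
theorem exists_torus (D : Data B h) {p e : V} (hp : p ∉ K ∙ e) (hpp : h p p = 0) (hpe : h p e = 0)
    {k : K} (hk : k ≠ 0) (hkr : ρ k = k) : ∃ M ∈ G, (∀ s : K, M (s • p) = (s * k) • p) ∧ M e = e := by
  obtain ⟨q₀, hq₀, hq₀e⟩ := D.exists_dual hp
  obtain ⟨s₀, hs₀⟩ := Herm.exists_trace_eq D.ch.ne_id D.ch.invol (a := -(h q₀ q₀))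
    (by rw [map_neg, D.ch.self_fixed])
  set q := q₀ + s₀ • p with hq
  have h1 : h q p = 1 := by
    rw [hq, map_add, LinearMap.map_smulₛₗ, LinearMap.add_apply, LinearMap.smul_apply, hpp, smul_zero, add_zero, hq₀]
  have h2 : h q e = 0 := by
    rw [hq, map_add, LinearMap.map_smulₛₗ, LinearMap.add_apply, LinearMap.smul_apply, hpe, smul_zero, add_zero, hq₀e]
  have h3 : h p q = 1 := D.ch.swap_one h1
  have hqq : h q q = 0 := by
    simp only [hq, map_add, LinearMap.map_smulₛₗ, LinearMap.add_apply, LinearMap.smul_apply, map_smul,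
      smul_eq_mul, hpp, hq₀, D.ch.swap_one hq₀]
    linear_combination hs₀
  obtain ⟨η₀, hη₀, hη⟩ := D.exists_anti
  set η := algebraMap F K η₀ with hηd
  have hη' : ρ η = -η := by rw [hηd, D.compat, hη, map_neg]
  have hη0 : η ≠ 0 := by simpa [hηd] using hη₀
  set μ := -η / k with hμd
  have hμ : ρ μ = -μ := by rw [hμd, map_div₀, map_neg, hη', hkr]; ring
  have hμ0 : μ ≠ 0 := div_ne_zero (neg_ne_zero.2 hη0) hk
  obtain ⟨X, hX, hXa⟩ := hG.roots D hpp hη'
  obtain ⟨Y, hY, hYa⟩ := hG.roots D hqq (show ρ (-η⁻¹) = -(-η⁻¹) by rw [map_neg, map_inv₀, hη', inv_neg])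
  obtain ⟨X', hX', hX'a⟩ := hG.roots D hpp hμ
  obtain ⟨Y', hY', hY'a⟩ := hG.roots D hqq (show ρ (-μ⁻¹) = -(-μ⁻¹) by rw [map_neg, map_inv₀, hμ, inv_neg])
  refine ⟨X * Y * X * (X' * Y' * X'), G.mul_mem (G.mul_mem (G.mul_mem hX hY) hX)
    (G.mul_mem (G.mul_mem hX' hY') hX'), fun s => ?_, ?_⟩
  · show X (Y (X (X' (Y' (X' (s • p)))))) = _
    have e1 : X' (s • p) = s • p := by simp [hX'a, hpp]
    have e2 : Y' (s • p) = s • p + (-μ⁻¹ * s) • q := by simp [hY'a, h1]
    have e3 : X' (s • p + (-μ⁻¹ * s) • q) = (-μ⁻¹ * s) • q := by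
      rw [hX'a]
      simp [hpp, h3, hμ0]
    have e4 : X ((-μ⁻¹ * s) • q) = (-μ⁻¹ * s) • q + (η * (-μ⁻¹ * s)) • p := by simp [hXa, h3]
    have e5 : Y ((-μ⁻¹ * s) • q + (η * (-μ⁻¹ * s)) • p) = (s * k) • p := by
      rw [hYa]
      simp only [root_apply, map_add, map_smul, smul_eq_mul, hqq, h1, mul_zero, zero_add, mul_one]
      match_scalars <;> simp only [hμd] <;> field_simp <;> ring
    have e6 : X ((s * k) • p) = (s * k) • p := by simp [hXa, hpp]
    rw [e1, e2, e3, e4, e5, e6]
  · show X (Y (X (X' (Y' (X' e))))) = _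
    simp [hXa, hYa, hX'a, hY'a, hpe, h2]

end Over

end Cfsg.Lib.Linear.UExt
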