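import Cfsg.Agent.Lib.Linear.UExt.Trans

/-!
# Maps preserving the isotropic lines are semilinear
-/

set_option autoImplicit false
set_option linter.unusedSectionVars false

namespace Cfsg.Lib.Linear.UExt

open Module
open Cfsg.Lib.Linear

variable {F K V : Type*} [Field F] [Finite F] [Field K] [Finite K] [Algebra F K] [FiniteDimensional F K]
  [AddCommGroup V] [Module F V] [Module K V] [IsScalarTower F K V] [FiniteDimensional F V] [FiniteDimensional K V]
  {σ : F →+* F} {ρ : K →+* K} {B : V →ₛₗ[σ] V →ₗ[F] F} {h : V →ₛₗ[ρ] V →ₗ[K] K}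

namespace Data

variable (D : Data B h)
include D

theorem semilinear (h4 : 4 ≤ finrank K V) {g : V ≃ₗ[F] V} (hg : ∀ (u : V) (k : K), h u u = 0 → g (k • u) ∈ K ∙ g u) :
    ∀ k : K, ∃ a : K, ∀ v, g (k • v) = a • g v := by
  have hrep : ∀ (u : V) (k : K), h u u = 0 → ∃ a : K, a • g u = g (k • u) := fun u k hu =>
    Submodule.mem_span_singleton.1 (hg u k hu)
  choose φ hφ using hrep
  have hne : ∀ {u : V}, u ≠ 0 → g u ≠ 0 := fun hu => by simpa using hu
  -- independent vectors have independent images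
  have hind : ∀ {x y : V}, x ≠ 0 → ∀ (hxx : h x x = 0), y ∉ K ∙ x → g y ∉ K ∙ g x := by
    intro x y hx hxx hy hm
    have hinj : Function.Injective fun k => φ x k hxx := fun k k' e => by
      have h1 : φ x k hxx • g x = φ x k' hxx • g x := by rw [show φ x k hxx = φ x k' hxx from e]
      rw [hφ, hφ, g.injective.eq_iff] at h1
      exact smul_left_injective K hx h1
    obtain ⟨s, hs⟩ := Submodule.mem_span_singleton.1 hm
    obtain ⟨k, hk⟩ := Finite.surjective_of_injective hinj s
    refine hy (Submodule.mem_span_singleton.2 ⟨k, g.injective ?_⟩)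
    rw [← hs, ← hk, hφ]
  have hperp : ∀ {x y : V} (hxx : h x x = 0) (hyy : h y y = 0), x ≠ 0 → y ∉ K ∙ x → h x y = 0 →
      ∀ k, φ x k hxx = φ y k hyy := by
    intro x y hxx hyy hx hy hxy k
    have hyx := D.ch.swap_zero hxy
    have hsum : h (x + y) (x + y) = 0 := by simp [hxx, hyy, hxy, hyx]
    have h1 := hφ (x + y) k hsum
    rw [smul_add, map_add, map_add, smul_add, ← hφ x k hxx, ← hφ y k hyy, ← sub_eq_zero, add_sub_add_comm,
      ← sub_smul, ← sub_smul] at h1
    have h3 : φ (x + y) k hsum - φ y k hyy = 0 := by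
      by_contra h2
      refine hind hx hxx hy (Submodule.mem_span_singleton.2
        ⟨-((φ (x + y) k hsum - φ y k hyy)⁻¹ * (φ (x + y) k hsum - φ x k hxx)), ?_⟩)
      rw [neg_smul, mul_smul, eq_neg_of_add_eq_zero_left h1, smul_neg, neg_neg, smul_smul, inv_mul_cancel₀ h2,
        one_smul]
    rw [h3, zero_smul, add_zero] at h1
    have h4 := (smul_eq_zero.1 h1).resolve_right (hne hx)
    rw [← sub_eq_zero.1 h4, sub_eq_zero.1 h3]
  have hnot : ∀ {x z : V}, z ≠ 0 → h x x = 0 → h x z = 0 → (∃ w, h w z = 0 ∧ h w x = 1) → z ∉ K ∙ x := by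
    intro x z hz _ _ ⟨w, hw, hw1⟩ hm
    obtain ⟨s, rfl⟩ := Submodule.mem_span_singleton.1 hm
    rw [map_smul, hw1, smul_eq_mul, mul_one] at hw
    exact hz (by rw [hw, zero_smul])
  have hself : ∀ {x y : V} (hxx : h x x = 0) (hyy : h y y = 0), x ≠ 0 → y ≠ 0 → ∀ k, φ x k hxx = φ y k hyy := by
    intro x y hxx hyy hx hy k
    by_cases hm : y ∈ K ∙ x
    · obtain ⟨c, hc⟩ := Submodule.mem_span_singleton.1 hm
      obtain ⟨x', hx', hxx'⟩ := D.ch.exists_partner hx hxx
      obtain ⟨z, hz, hz0, hzz⟩ := Herm.exists_iso_ne_zero D.ch.ne_id D.ch.invol D.ch.symm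
        (D.ch.perp2 x x') (by have := D.ch.finrank_perp2 x x'; have := h4; omega)
      obtain ⟨hxz, hx'z⟩ := D.ch.mem_perp2.1 hz
      have hzx : z ∉ K ∙ x := hnot hz0 hxx hxz ⟨x', hx'z, D.ch.swap_one hxx'⟩
      have hc0 : c ≠ 0 := fun e => hy (by rw [← hc, e, zero_smul])
      have hzy : z ∉ K ∙ y := by rwa [← hc, Submodule.span_singleton_smul_eq (Ne.isUnit hc0)]
      have hyz : h y z = 0 := by rw [← hc]; simp [hxz]
      rw [hperp hxx hzz hx hzx hxz k, hperp hyy hzz hy hzy hyz k]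
    · by_cases hxy : h x y = 0
      · exact hperp hxx hyy hx hm hxy k
      · obtain ⟨z, hz, hz0, hzz⟩ := Herm.exists_iso_ne_zero D.ch.ne_id D.ch.invol D.ch.symm
          (D.ch.perp2 x y) (by have := D.ch.finrank_perp2 x y; have := h4; omega)
        obtain ⟨hxz, hyz⟩ := D.ch.mem_perp2.1 hz
        have hzx : z ∉ K ∙ x := by
          intro h0
          obtain ⟨s, rfl⟩ := Submodule.mem_span_singleton.1 h0
          rw [map_smul, smul_eq_mul, mul_eq_zero] at hyz
          rcases hyz with h1 | h1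
          · exact hz0 (by rw [h1, zero_smul])
          · exact hxy (D.ch.swap_zero h1)
        have hzy : z ∉ K ∙ y := by
          intro h0
          obtain ⟨s, rfl⟩ := Submodule.mem_span_singleton.1 h0
          rw [map_smul, smul_eq_mul, mul_eq_zero] at hxz
          rcases hxz with h1 | h1
          · exact hz0 (by rw [h1, zero_smul])
          · exact hxy h1
        rw [hperp hxx hzz hx hzx hxz k, hperp hyy hzz hy hzy hyz k]
  obtain ⟨e, -, he0, hee⟩ := Herm.exists_iso_ne_zero D.ch.ne_id D.ch.invol D.ch.symm ⊤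
    (by rw [finrank_top]; have := h4; omega)
  intro k
  refine ⟨φ e k hee, fun v => ?_⟩
  have hv : v ∈ Submodule.span K ({e} ∪ {w | h w w = 0 ∧ h e w ≠ 0}) :=
    (D.ch.span_iso he0 hee).symm ▸ Submodule.mem_top
  have key : ∀ (x : V), h x x = 0 → ∀ c : K, g (k • c • x) = φ e k hee • g (c • x) := by
    intro x hx c
    rcases eq_or_ne (c • x) 0 with h0 | h0
    · rw [h0, smul_zero, map_zero, smul_zero]
    · have hcx : h (c • x) (c • x) = 0 := by simp [hx]
      rw [hself hee hcx he0 h0 k, hφ]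
  suffices ∀ c : K, g (k • c • v) = φ e k hee • g (c • v) by simpa using this 1
  induction hv using Submodule.span_induction with
  | mem x hx =>
    rcases hx with rfl | hx
    · exact key x hee
    · exact key x hx.1
  | zero => intro c; simp
  | add a b _ _ ha hb => intro c; simp [smul_add, ha c, hb c]
  | smul a b _ hb => intro c; rw [smul_smul c a b]; exact hb _

/-- Some transvection of the trace form is not semilinear. -/
theorem exists_not_semilinear : ∃ t ∈ Herm.tvGroup B, ¬ ∀ k : K, ∃ a : K, ∀ v, t (k • v) = a • t v := by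
  obtain ⟨u, -, hu0, huu⟩ := Herm.exists_iso_ne_zero D.ch.ne_id D.ch.invol D.ch.symm ⊤
    (by rw [finrank_top]; have := D.dim; omega)
  obtain ⟨e, he, hue⟩ := D.ch.exists_partner hu0 huu
  obtain ⟨β, hβ0, -, hβ⟩ := D.exists_real_trace_zero
  obtain ⟨η, hη0, hη⟩ := D.exists_anti
  obtain ⟨k, hk⟩ : ∃ k, Algebra.trace F K (k * β) ≠ 0 := by
    by_contra hc
    push Not at hc
    exact hβ0 (D.ext_trace fun k => by rw [hc, mul_zero, map_zero])
  have hBu : B u u = 0 := by rw [D.tr, huu, map_zero]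
  have hl : η + σ η + σ η * η * B u u = 0 := by rw [hBu, mul_zero, hη, add_zero, add_neg_cancel]
  refine ⟨Herm.qrefl u η hl, Subgroup.subset_closure ⟨u, η, hl, hBu, rfl⟩, fun hall => ?_⟩
  obtain ⟨a, ha⟩ := hall k
  have h1 := ha (β • e)
  have hB1 : B u (β • e) = 0 := by rw [D.smul_right, hue, mul_one, hβ]
  have hB2 : B u (k • β • e) = Algebra.trace F K (k * β) := by rw [smul_smul, D.smul_right, hue, mul_one]
  rw [Herm.qrefl_apply, Herm.qrefl_apply, hB1, mul_zero, zero_smul, add_zero, hB2] at h1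
  have h2 := congrArg (fun z => h u z) h1
  simp only [map_add, map_smul, smul_eq_mul, hue, mul_one] at h2
  rw [← algebraMap_smul K (η * Algebra.trace F K (k * β)) u, map_smul, huu, smul_zero, add_zero] at h2
  have h3 : k = a := mul_right_cancel₀ hβ0 h2
  rw [h3, add_eq_left, smul_eq_zero] at h1
  rcases h1 with h4 | h4
  · rw [← h3] at h4
    exact mul_ne_zero hη0 hk h4
  · exact hu0 h4

/-- An overgroup is semilinear or contains all transvections. -/
theorem dichotomy {G : Subgroup (V ≃ₗ[F] V)} (hiso : ∀ g ∈ G, ∀ x y, B (g x) (g y) = B x y)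
    (hklin : ∀ f : V ≃ₗ[K] V, f ∈ Herm.iso h → LinearEquiv.det f = 1 → f.restrictScalars F ∈ G)
    (h4 : 4 ≤ finrank K V) :
    (∀ g ∈ G, ∀ k : K, ∃ a : K, ∀ v, g (k • v) = a • g v) ∨ Herm.tvGroup B ≤ G := by
  by_cases hm : ∀ g ∈ G, ∀ (u : V) (k : K), h u u = 0 → g (k • u) ∈ K ∙ g u
  · exact Or.inl fun g hg => D.semilinear h4 (hm g hg)
  · push Not at hm
    obtain ⟨g, hg, u, k, hu, hk⟩ := hm
    exact Or.inr (Over.tv_le ⟨hiso, hklin, g, hg, u, k, hu, hk⟩ D h4)

end Data

end Cfsg.Lib.Linear.UExt
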