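import Mathlib

/-!
# The ring generated by the products `k * f (ρ k)` in a field of degree three

`f` has order three and `ρ` is an involution commuting with it.  An additive group invariant under multiplication
by `k * f (ρ k)`, `k / ρ k` of norm one, and containing a non-zero element is everything.
-/

set_option autoImplicit false
set_option linter.unusedSectionVars false

namespace Cfsg.Lib.Linear.UExt

open Module

variable {F K : Type*} [Field F] [Finite F] [Field K] [Finite K] [Algebra F K]

/-- An automorphism of order three fixing exactly the ground field, with a commuting involution. -/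
structure Cubic (σ : F →+* F) (ρ : K →+* K) (f : K →ₐ[F] K) : Prop where
  three : ∀ x, f (f (f x)) = x
  fixed : ∀ x, f x = x → ∃ a : F, x = algebraMap F K a
  comm : ∀ x, ρ (f x) = f (ρ x)
  invol : ∀ x, ρ (ρ x) = x
  compat : ∀ a, ρ (algebraMap F K a) = algebraMap F K (σ a)
  ne : σ ≠ RingHom.id F
  three' : finrank F K = 3
  nine : 9 ≤ Nat.card F
  norm_eq : ∀ x, algebraMap F K (Algebra.norm F x) = x * f x * f (f x)

namespace Cubic

variable {σ : F →+* F} {ρ : K →+* K} {f : K →ₐ[F] K} (Q : Cubic σ ρ f)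
include Q

theorem f_inj : Function.Injective f := fun a b h => by rw [← Q.three a, ← Q.three b, h]

theorem fixed_of_sq {x : K} (h : f (f x) = x) : f x = x := by
  have h3 := Q.three x
  rwa [h] at h3

theorem norm_map (x : K) : Algebra.norm F (f x) = Algebra.norm F x := by
  refine (algebraMap F K).injective ?_
  rw [Q.norm_eq, Q.norm_eq, Q.three]
  ring

theorem exists_nonreal : ∃ η : F, σ η ≠ η := by
  by_contra hc
  push Not at hc
  exact Q.ne (RingHom.ext hc)

/-- A non-fixed element splits the field over the fixed elements. -/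
theorem decomp {θ : K} (hθ : ρ θ ≠ θ) (z : K) : ∃ a b, ρ a = a ∧ ρ b = b ∧ z = a + b * θ := by
  have h0 : θ - ρ θ ≠ 0 := sub_ne_zero.2 (Ne.symm hθ)
  have hb : ρ ((z - ρ z) / (θ - ρ θ)) = (z - ρ z) / (θ - ρ θ) := by
    rw [map_div₀, map_sub, map_sub, Q.invol, Q.invol, ← neg_sub, ← neg_sub θ (ρ θ), neg_div_neg_eq]
  refine ⟨z - (z - ρ z) / (θ - ρ θ) * θ, _, ?_, hb, by ring⟩
  rw [map_sub, map_mul, hb]
  field_simp
  ring

/-- A ring with all the products of a fixed element and its image has all the fixed elements. -/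
theorem real_mem {R : Subring K} (hR : ∀ x, ρ x = x → x * f x ∈ R) {x : K} (hx : ρ x = x) : x ∈ R := by
  have him : ∀ y, ρ y = y → y + f y ∈ R := fun y hy => by
    have h := R.sub_mem (R.sub_mem (hR (1 + y) (by rw [map_add, map_one, hy])) R.one_mem) (hR y hy)
    convert h using 1
    rw [map_add, map_one]
    ring
  have hf : ∀ {y}, ρ y = y → ρ (f y) = f y := fun {y} hy => by rw [Q.comm, hy]
  set T := x + f x + f (f x) with hT
  have hTf : f T = T := by simp only [hT, map_add, Q.three]; ring
  have hTr : ρ T = T := by simp only [hT, map_add, hx, hf hx, hf (hf hx)]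
  have hTR : T ∈ R := by
    by_cases h2 : (2 : K) = 0
    · have hinj : Function.Injective fun y : K => y ^ 2 := fun a b h => by
        have h' : (a - b) ^ 2 = 0 := by linear_combination h + (b ^ 2 - a * b) * h2
        exact sub_eq_zero.1 (pow_eq_zero_iff two_ne_zero |>.1 h')
      obtain ⟨y, hy⟩ := Finite.surjective_of_injective hinj T
      simp only at hy
      have hy1 : f y = y := hinj (by show f y ^ 2 = y ^ 2; rw [← map_pow, hy, hTf])
      have hy2 : ρ y = y := hinj (by show ρ y ^ 2 = y ^ 2; rw [← map_pow, hy, hTr])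
      have := hR y hy2
      rwa [hy1, ← pow_two, hy] at this
    · have := him (T / 2) (by rw [map_div₀, hTr, map_ofNat])
      rwa [map_div₀, hTf, map_ofNat, ← two_mul, mul_div_cancel₀ _ h2] at this
  have h := R.sub_mem hTR (him (f x) (hf hx))
  convert h using 1
  simp only [hT]
  ring

/-- An element of admissible norm whose product is not fixed. -/
theorem exists_torus : ∃ k : K, k ≠ 0 ∧ Algebra.norm F (k / ρ k) = 1 ∧ ρ (k * f (ρ k)) ≠ k * f (ρ k) := by
  classical
  have := Fintype.ofFinite F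
  have := Fintype.ofFinite K
  by_cases hex : ∃ w : K, w ≠ 0 ∧ f ((w / ρ w) / f (w / ρ w)) ≠ (w / ρ w) / f (w / ρ w)
  · obtain ⟨w, hw, h1⟩ := hex
    have hρw : ρ w ≠ 0 := by simpa using hw
    have hfw : f w ≠ 0 := fun h => hw (Q.f_inj (by rw [h, map_zero]))
    have hfρw : f (ρ w) ≠ 0 := fun h => hρw (Q.f_inj (by rw [h, map_zero]))
    set k := w / f w with hk
    have hk0 : k ≠ 0 := div_ne_zero hw hfw
    have hρk : ρ k ≠ 0 := by simpa using hk0
    have hfρk : f (ρ k) ≠ 0 := fun h => hρk (Q.f_inj (by rw [h, map_zero]))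
    have hkk : k / ρ k = (w / ρ w) / f (w / ρ w) := by
      simp only [hk, map_div₀, Q.comm]
      field_simp
    refine ⟨k, hk0, ?_, fun h => ?_⟩
    · have hn : Algebra.norm F (w / ρ w) ≠ 0 := by
        rw [Ne, Algebra.norm_eq_zero_iff]
        exact div_ne_zero hw hρw
      refine mul_right_cancel₀ hn ?_
      conv_lhs => rw [← Q.norm_map (w / ρ w), ← map_mul, hkk,
        div_mul_cancel₀ _ (fun h => div_ne_zero hw hρw (Q.f_inj (by rw [h, map_zero])))]
      rw [one_mul]
    · rw [map_mul, Q.comm, Q.invol] at h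
      refine h1 (hkk ▸ ?_)
      rw [map_div₀, div_eq_div_iff hfρk hρk]
      linear_combination h
  exfalso
  push Not at hex
  have hfix : ∀ w : K, w ≠ 0 → ∃ c : F, c ≠ 0 ∧ (w / ρ w) ^ 3 = algebraMap F K c := fun w hw => by
    set x := w / ρ w with hx
    set y := x / f x with hy
    have hy1 : f y = y := hex w hw
    have hx0 : x ≠ 0 := div_ne_zero hw (by simpa using hw)
    have hfx0 : f x ≠ 0 := fun h => hx0 (Q.f_inj (by rw [h, map_zero]))
    have hy0 : y ≠ 0 := div_ne_zero hx0 hfx0
    have hstep : f x = x / y := by rw [hy]; field_simp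
    have h3 : x = x / y ^ 3 := by
      conv_lhs => rw [← Q.three x]
      simp only [hstep, map_div₀, hy1]
      field_simp
    have hy3 : y ^ 3 = 1 := by
      have := h3.symm
      rwa [div_eq_iff (pow_ne_zero 3 hy0), left_eq_mul₀ hx0] at this
    obtain ⟨c, hc⟩ := Q.fixed (x ^ 3) (by rw [map_pow, hstep, div_pow, hy3, div_one])
    exact ⟨c, fun e => pow_ne_zero 3 hx0 (by rw [hc, e, map_zero]), hc⟩
  obtain ⟨η, hη⟩ := Q.exists_nonreal
  set e := algebraMap F K η with he
  have he' : ρ e ≠ e := by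
    rw [he, Q.compat]
    exact fun h => hη ((algebraMap F K).injective h)
  set S : Finset K := Finset.univ.filter fun s => ρ s = s with hS
  have hmem : ∀ s ∈ S, ρ s = s := fun s hs => (Finset.mem_filter.1 hs).2
  have hnz : ∀ s ∈ S, s + e ≠ 0 := fun s hs h => he' (by
    rw [eq_neg_of_add_eq_zero_right h, map_neg, hmem s hs])
  have hK : Fintype.card K ≤ S.card * S.card := by
    rw [← Finset.card_product]
    refine Finset.card_le_card_of_surjOn (fun ab => ab.1 + ab.2 * e) fun z _ => ?_
    obtain ⟨a, b, ha, hb, rfl⟩ := Q.decomp he' z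
    exact ⟨(a, b), by simp [hS, ha, hb], rfl⟩
  have hinj : Set.InjOn (fun s => (s + e) / ρ (s + e)) S := by
    intro s hs t ht h
    have h1 : ρ (s + e) ≠ 0 := (map_ne_zero ρ).2 (hnz s hs)
    have h2 : ρ (t + e) ≠ 0 := (map_ne_zero ρ).2 (hnz t ht)
    simp only [map_add, hmem s hs, hmem t ht] at h h1 h2
    rw [div_eq_div_iff h1 h2] at h
    have h3 : (s - t) * (ρ e - e) = 0 := by linear_combination h
    exact sub_eq_zero.1 ((mul_eq_zero.1 h3).resolve_right (sub_ne_zero.2 he'))
  have hS3 : S.card ≤ 3 * (Fintype.card F - 1) := by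
    refine (Finset.card_le_card_of_injOn _ (t := (Finset.univ.erase 0).biUnion fun c : F =>
      (Polynomial.nthRoots 3 (algebraMap F K c)).toFinset) (fun s hs => ?_) hinj).trans ?_
    · obtain ⟨c, hc0, hc⟩ := hfix (s + e) (hnz s hs)
      exact Finset.mem_biUnion.2 ⟨c, Finset.mem_erase.2 ⟨hc0, Finset.mem_univ c⟩,
        Multiset.mem_toFinset.2 ((Polynomial.mem_nthRoots (by norm_num)).2 hc)⟩
    · refine (Finset.card_biUnion_le).trans ((Finset.sum_le_card_nsmul _ _ 3 fun c _ => ?_).trans ?_)
      · exact (Multiset.toFinset_card_le _).trans (Polynomial.card_nthRoots 3 _)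
      · simp [mul_comm]
  have h9 : 9 ≤ Fintype.card F := by rw [← Nat.card_eq_fintype_card]; exact Q.nine
  rw [Module.card_eq_pow_finrank (K := F) (V := K), Q.three'] at hK
  have h1 := hK.trans (Nat.mul_le_mul hS3 hS3)
  obtain ⟨c, hc⟩ : ∃ c, Fintype.card F = c + 9 := ⟨Fintype.card F - 9, by omega⟩
  rw [hc, show c + 9 - 1 = c + 8 by omega] at h1
  nlinarith

/-- An invariant group is everything. -/
theorem all_elems (N : AddSubgroup K)
    (hN : ∀ k : K, k ≠ 0 → Algebra.norm F (k / ρ k) = 1 → ∀ c ∈ N, k * f (ρ k) * c ∈ N)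
    {c₁ : K} (h1 : c₁ ≠ 0) (hc : c₁ ∈ N) : N = ⊤ := by
  let R : Subring K :=
    { carrier := {r | ∀ c ∈ N, r * c ∈ N}
      mul_mem' := fun {a b} ha hb c hc => by rw [mul_assoc]; exact ha _ (hb c hc)
      one_mem' := fun c hc => by rwa [one_mul]
      add_mem' := fun {a b} ha hb c hc => by rw [add_mul]; exact N.add_mem (ha c hc) (hb c hc)
      zero_mem' := fun c _ => by rw [zero_mul]; exact N.zero_mem
      neg_mem' := fun {a} ha c hc => by rw [neg_mul]; exact N.neg_mem (ha c hc) }
  have hreal : ∀ x, ρ x = x → x * f x ∈ R := fun x hx => by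
    rcases eq_or_ne x 0 with rfl | hx0
    · rw [zero_mul]; exact R.zero_mem
    · have := hN x hx0 (by rw [hx, div_self hx0, map_one])
      rwa [hx] at this
  obtain ⟨k, hk0, hk, hk1⟩ := Q.exists_torus
  have hkR : k * f (ρ k) ∈ R := hN k hk0 hk
  refine eq_top_iff.2 fun z _ => ?_
  obtain ⟨a, b, ha, hb, e⟩ := Q.decomp hk1 (z / c₁)
  have hr : z / c₁ ∈ R := e ▸ R.add_mem (Q.real_mem hreal ha) (R.mul_mem (Q.real_mem hreal hb) hkR)
  simpa [h1] using hr _ hc

end Cubic

end Cfsg.Lib.Linear.UExt
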