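import Cfsg.Agent.Lib.Linear.UExt.TwoCentre
import Cfsg.Agent.Lib.Linear.UExt.ThreeRing

/-!
# Dimension two over an extension of degree three

A group of isometries of the trace form containing the `K`-linear isometries of determinant one and an element
which is not semilinear contains all transvections.
-/

set_option autoImplicit false
set_option linter.unusedSectionVars false

namespace Cfsg.Lib.Linear.UExt

open Module
open Cfsg.Lib.Linear
open Cfsg.Lib.Linear.ExtField (InG)

variable {F K V : Type*} [Field F] [Finite F] [Field K] [Finite K] [Algebra F K] [FiniteDimensional F K]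
  [AddCommGroup V] [Module F V] [Module K V] [IsScalarTower F K V] [FiniteDimensional F V] [FiniteDimensional K V]
  {σ : F →+* F} {ρ : K →+* K} {B : V →ₛₗ[σ] V →ₗ[F] F} {h : V →ₛₗ[ρ] V →ₗ[K] K}
  {G : Subgroup (V ≃ₗ[F] V)}

/-- The map of a coefficient. -/
def cmap₃ (ρ : K →+* K) (f : K →ₐ[F] K) (c : K) : K →ₗ[F] K :=
  LinearMap.mulLeft F c ∘ₗ f.toLinearMap - f.toLinearMap ∘ₗ f.toLinearMap ∘ₗ LinearMap.mulLeft F (ρ c)

@[simp] theorem cmap₃_apply (f : K →ₐ[F] K) (c H : K) : cmap₃ ρ f c H = c * f H - f (f (ρ c * H)) := rfl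

/-- A coefficient of the commutator vanishes only at proportional parameters. -/
theorem Cubic.coeff_ne {f : K →ₐ[F] K} (Q : Cubic σ ρ f) {b γ : K} (hb : ρ b = -b) (hb0 : b ≠ 0)
    (hne : ∀ c : F, γ ≠ algebraMap F K c * b) : b * f (ρ γ) + γ * f b ≠ 0 := by
  intro h0
  set y := γ / b with hy
  have hfb : f b ≠ 0 := fun e => hb0 (Q.f_inj (by rw [e, map_zero]))
  have h1 : f (ρ y) = y := by
    simp only [hy, map_div₀, hb, map_neg]
    field_simp
    linear_combination -h0
  have h2 : f (f y) = y := by
    have := congrArg (fun z => f (ρ z)) h1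
    simp only [Q.comm, Q.invol] at this
    exact this.trans h1
  obtain ⟨c, hc⟩ := Q.fixed y (Q.fixed_of_sq h2)
  exact hne c (by rw [← hc, hy, div_mul_cancel₀ _ hb0])

/-- Dimension two over an extension of degree three, the fixed field having at least three elements. -/
structure IsThree (B : V →ₛₗ[σ] V →ₗ[F] F) (h : V →ₛₗ[ρ] V →ₗ[K] K) (G : Subgroup (V ≃ₗ[F] V)) : Prop
    extends IsTwoBase B h G where
  three : finrank F K = 3
  nine : 9 ≤ Nat.card F

namespace IsThree

variable (T : IsThree B h G)
include T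

theorem exists_cubic : ∃ f : K →ₐ[F] K, Cubic σ ρ f ∧
    ∀ z, algebraMap F K (Algebra.trace F K z) = z + f z + f (f z) := by
  classical
  have := Fintype.ofFinite F
  have := Fintype.ofFinite K
  have hf : ∀ z : K, FiniteField.frobeniusAlgHom F K z = z ^ Fintype.card F := fun z => by
    rw [FiniteField.coe_frobeniusAlgHom]
  refine ⟨FiniteField.frobeniusAlgHom F K, ?_, fun z => ?_⟩
  · refine ⟨fun x => ?_, fun x hx => ?_, fun x => by rw [hf, hf, map_pow], T.D.invK, T.D.compat,
      T.D.cB.ne_id, T.three, T.nine, fun x => ?_⟩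
    · simp only [hf, ← pow_mul]
      rw [show Fintype.card F * Fintype.card F * Fintype.card F =
        Fintype.card K by rw [Module.card_eq_pow_finrank (K := F) (V := K), T.three]; ring]
      exact FiniteField.pow_card x
    · rw [hf] at hx
      set S := (Polynomial.X ^ Fintype.card F - Polynomial.X : Polynomial K) with hS
      have hS0 : S ≠ 0 := FiniteField.X_pow_card_sub_X_ne_zero K Fintype.one_lt_card
      have hsub : Finset.univ.image (algebraMap F K) ⊆ S.roots.toFinset := fun z hz => by
        obtain ⟨a, -, rfl⟩ := Finset.mem_image.1 hz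
        rw [Multiset.mem_toFinset, Polynomial.mem_roots hS0]
        simp [hS, ← map_pow, FiniteField.pow_card]
      have heq := Finset.eq_of_subset_of_card_le hsub (by
        rw [Finset.card_image_of_injective _ (algebraMap F K).injective, Finset.card_univ]
        refine (Multiset.toFinset_card_le _).trans ((Polynomial.card_roots' S).trans ?_)
        rw [hS, FiniteField.X_pow_card_sub_X_natDegree_eq K Fintype.one_lt_card])
      have hx' : x ∈ S.roots.toFinset := by
        rw [Multiset.mem_toFinset, Polynomial.mem_roots hS0]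
        simp [hS, hx]
      obtain ⟨a, -, ha⟩ := Finset.mem_image.1 (heq ▸ hx')
      exact ⟨a, ha.symm⟩
    · rw [FiniteField.algebraMap_norm_eq_prod_pow, T.three, Nat.card_eq_fintype_card]
      simp only [Finset.prod_range_succ, Finset.prod_range_zero, hf, ← pow_mul]
      ring_nf
  · rw [FiniteField.algebraMap_trace_eq_sum_pow, T.three, Nat.card_eq_fintype_card]
    simp only [Finset.sum_range_succ, Finset.sum_range_zero, hf, ← pow_mul]
    ring_nf

/-- Every radical element. -/
theorem cmap_mem (hm : ∃ g ∈ G, ∃ (u : V) (k : K), h u u = 0 ∧ g (k • u) ∉ K ∙ g u)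
    {f : K →ₐ[F] K} (Q : Cubic σ ρ f)
    (htr : ∀ z, algebraMap F K (Algebra.trace F K z) = z + f z + f (f z)) :
    ∃ p, p ≠ 0 ∧ h p p = 0 ∧ ∀ c, InG G (rad h p (cmap₃ ρ f c)) := by
  obtain ⟨g, u, p, τ, R⟩ := T.exists_rankOne hm
  have D := T.D
  have hG : Over B h G :=
    ⟨T.isom, fun v hv hd => T.klin v hv (by
      refine Units.ext ?_
      rw [LinearEquiv.coe_det]
      show LinearMap.det ((v : V →ₗ[K] V).restrictScalars F) = 1
      rw [LinearMap.det_restrictScalars, ← LinearEquiv.coe_det, hd, Units.val_one, map_one]), hm⟩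
  obtain ⟨k₀, hk₀⟩ := Algebra.trace_surjective F K 1
  set t := h u (g.symm (k₀ • p)) with htd
  have ht : ∀ k, h u (g.symm (k • p)) = algebraMap F K (Algebra.trace F K k) * t := fun k => by
    refine D.ext_trace fun k' => ?_
    rw [R.adj D hG, show ρ k' * (algebraMap F K (Algebra.trace F K k) * t) =
      (ρ k' * t) * algebraMap F K (Algebra.trace F K k) by ring, D.trace_mul_algebraMap, htd, R.adj D hG, hk₀]
    ring
  have hτt : ∀ x, Algebra.trace F K (x * ρ t) = τ x := fun x => by
    have := congrArg σ (R.adj D hG x k₀)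
    rw [hk₀, one_mul, D.cB.invol, ← D.tr_conj, map_mul, D.invK, ← htd] at this
    exact this
  have ht0 : t ≠ 0 := fun e0 => R.ne (LinearMap.ext fun x => by
    rw [← hτt, e0, map_zero, mul_zero, map_zero, LinearMap.zero_apply])
  have hρt : ρ t ≠ 0 := by simpa using ht0
  have hu : u ≠ 0 := fun e => R.ne (LinearMap.ext fun k => (algebraMap F K).injective (by
    rw [← R.eq, e, smul_zero, map_zero, map_zero, LinearMap.zero_apply, map_zero]))
  have hp : p ≠ 0 := fun e => R.ne (LinearMap.ext fun k => (algebraMap F K).injective (by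
    rw [← R.eq, e]; simp))
  obtain ⟨p', hp'p', hpp'⟩ := D.ch.exists_partner hp R.iso_p
  obtain ⟨η₀, hη₀, hη⟩ := D.exists_anti
  set η := algebraMap F K η₀ with hηd
  have hη0 : η ≠ 0 := by simpa [hηd] using hη₀
  have hηr : ρ η = -η := by rw [hηd, D.compat, hη, map_neg]
  obtain ⟨d, hd0, hd, hd1⟩ := D.exists_real_trace_zero
  set a := η * d / (t * ρ t) with had
  have ha : ρ a = -a := by
    rw [had, map_div₀, map_mul, map_mul, hηr, hd, D.invK]
    rw [mul_comm (ρ t) t, neg_mul, neg_div]
  have hat : a * t = η * (d / ρ t) := by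
    rw [had]
    field_simp
  have hτ : τ (a * t) = 0 := by
    rw [← hτt, hat, mul_assoc, div_mul_cancel₀ _ hρt, hηd, mul_comm, D.trace_mul_algebraMap, hd1, zero_mul]
  obtain ⟨γ, hγ⟩ := Submodule.mem_span_singleton.1
    (T.perp_eq hp R.iso_p (show h p (g ((a * t) • u)) = 0 by rw [R.eq, hτ, map_zero]))
  have hγ0 : γ ≠ 0 := by
    intro e
    have h1 : (a * t) • u = 0 := g.injective (by rw [← hγ, e, zero_smul, map_zero])
    refine mul_ne_zero hη0 (div_ne_zero hd0 hρt) ?_
    rw [← hat]
    exact (smul_eq_zero.1 h1).resolve_right hu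
  -- a parameter of trace zero not proportional to the first
  obtain ⟨d', hd'0, hd', hd'1, hne⟩ : ∃ d' : K, d' ≠ 0 ∧ ρ d' = d' ∧ Algebra.trace F K d' = 0 ∧
      ∀ c : F, γ ≠ algebraMap F K c * (η * d') := by
    by_contra hc
    push Not at hc
    have hsub : LinearMap.ker (Algebra.trace F K) ≤ Submodule.span F {γ / η} := fun z hz => by
      refine (Submodule.span_le.2 ?_) (D.mem_real_span_zero (LinearMap.mem_ker.1 hz))
      rintro z' ⟨hz', hz'1⟩
      rcases eq_or_ne z' 0 with rfl | hz'0
      · exact Submodule.zero_mem _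
      obtain ⟨c, hc'⟩ := hc z' hz'0 hz' hz'1
      have hc0 : c ≠ 0 := fun e => hγ0 (by rw [hc', e, map_zero, zero_mul])
      refine Submodule.mem_span_singleton.2 ⟨c⁻¹, ?_⟩
      rw [Algebra.smul_def, hc', map_inv₀]
      have : algebraMap F K c ≠ 0 := by simpa using hc0
      field_simp
    have h1 := Submodule.finrank_mono hsub
    have h2 := (Algebra.trace F K).finrank_range_add_finrank_ker
    rw [LinearMap.range_eq_top.2 (Algebra.trace_surjective F K), finrank_top, finrank_self, T.three] at h2
    have h3 : finrank F (Submodule.span F {γ / η}) ≤ 1 :=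
      (finrank_span_le_card _).trans (by simp)
    omega
  set b := η * d' with hbd
  have hb : ρ b = -b := by rw [hbd, map_mul, hηr, hd', neg_mul]
  have hb0 : b ≠ 0 := mul_ne_zero hη0 hd'0
  have hbt : Algebra.trace F K b = 0 := by
    rw [hbd, hηd, mul_comm, D.trace_mul_algebraMap, hd'1, zero_mul]
  have hei : InG G (eich B (γ • p) (b • p)) := by
    have := R.inG D hG ht ha hτ hb
    rw [← hγ] at this
    exact this.congr fun x => by rw [LinearMap.add_apply, tvm_apply, hbt, zero_mul, zero_smul, add_zero]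
  have hpz : ∀ z : K, h p (z • p) = 0 := fun z => by rw [map_smul, R.iso_p, smul_zero]
  have hcm : ∀ c c' H, cmap₃ ρ f (c + c') H = cmap₃ ρ f c H + cmap₃ ρ f c' H := fun c c' H => by
    simp only [cmap₃_apply, map_add, add_mul]
    ring
  let N : AddSubgroup K :=
    { carrier := {c | InG G (rad h p (cmap₃ ρ f c))}
      add_mem' := fun {c c'} hc hc' => (hc.add hc' fun x => by simp [hpz]).congr fun x => by
        rw [LinearMap.add_apply, rad_apply, rad_apply, rad_apply, hcm, add_smul]
      zero_mem' := InG.zero.congr fun x => by simp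
      neg_mem' := fun {c} hc => (hc.neg fun x => by simp [hpz]).congr fun x => by
        rw [LinearMap.neg_apply, rad_apply, rad_apply, ← neg_smul]
        congr 1
        simp only [cmap₃_apply, map_neg, neg_mul]
        ring }
  have hN : ∀ k : K, k ≠ 0 → Algebra.norm F (k / ρ k) = 1 → ∀ c ∈ N, k * f (ρ k) * c ∈ N := by
    intro k hk hn c hc
    obtain ⟨M, hM, hMa⟩ := T.diag_mem R.iso_p hp'p' hpp' hk hn
    refine InG.conj (b := rad h p (cmap₃ ρ f _)) hc hM fun x => ?_
    have hρk : ρ k ≠ 0 := by simpa using hk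
    have hMx : h p (M x) = h p x / ρ k := by simp [hMa, R.iso_p, hpp']
    have hMp : ∀ z : K, M (z • p) = (k * z) • p := fun z => by
      simp [hMa, R.iso_p, T.D.ch.swap_one hpp']
    rw [rad_apply, rad_apply, hMx, hMp]
    congr 1
    set H := h p x
    have e1 : f (ρ k) ≠ 0 := fun e => hρk (Q.f_inj (by rw [e, map_zero]))
    have e2 : f (f (ρ k)) ≠ 0 := fun e => e1 (Q.f_inj (by rw [e, map_zero]))
    simp only [cmap₃_apply, map_mul, map_div₀, Q.comm, Q.invol, Q.three]
    field_simp
  set C₁ := b * f (ρ γ) + γ * f b with hC₁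
  set C₀ := b * ρ γ + γ * b with hC₀
  have hC₀' : ρ C₀ = -C₀ := by simp only [hC₀, map_add, map_mul, hb, D.invK]; ring
  have hC : C₁ ∈ N := by
    have hneg : ρ (-C₀) = -(-C₀) := by rw [map_neg, hC₀']
    refine (hei.add (T.roots R.iso_p hneg) fun x => ?_).congr fun x => ?_
    · simp [T.D.tr, R.iso_p]
    · simp only [LinearMap.add_apply, eich_apply, root_apply, rad_apply, D.smul_left]
      rw [← algebraMap_smul K (Algebra.trace F K (ρ γ * h p x)) (b • p),
        ← algebraMap_smul K (Algebra.trace F K (ρ b * h p x)) (γ • p), smul_smul, smul_smul, ← sub_smul, ← add_smul,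
        htr, htr]
      congr 1
      simp only [cmap₃_apply, hC₀, hC₁, map_add, map_mul, Q.comm, hb, Q.invol, map_neg, Q.three]
      ring
  have htop := Q.all_elems N hN (Q.coeff_ne hb hb0 hne) hC
  exact ⟨p, hp, R.iso_p, fun c => (htop ▸ AddSubgroup.mem_top c : c ∈ N)⟩

/-- The transvection group is contained. -/
theorem tv_le (hm : ∃ g ∈ G, ∃ (u : V) (k : K), h u u = 0 ∧ g (k • u) ∉ K ∙ g u) : Herm.tvGroup B ≤ G := by
  obtain ⟨f, Q, htr⟩ := T.exists_cubic
  obtain ⟨p, hp, hpp, hall⟩ := T.cmap_mem hm Q htr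
  refine T.tv_le_of_line hp hpp fun k l hl => ?_
  set e := algebraMap F K l with he
  have hel : ρ e = -e := by rw [he, T.D.compat, hl, map_neg]
  have h0 : ρ (e * k * ρ k) = -(e * k * ρ k) := by simp only [map_mul, hel, T.D.invK]; ring
  refine ((hall (e * k * f (ρ k))).add (T.roots hpp h0) fun x => ?_).congr fun x => ?_
  · simp [hpp]
  · simp only [LinearMap.add_apply, root_apply, rad_apply, tvm_apply, T.D.smul_left]
    rw [← algebraMap_smul K (l * Algebra.trace F K (ρ k * h p x)) (k • p), smul_smul, ← add_smul, map_mul, htr,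
      ← he]
    congr 1
    have hfe : f e = e := by rw [he, AlgHom.commutes]
    simp only [cmap₃_apply, map_mul, Q.comm, Q.invol, Q.three, hel, map_neg, hfe]
    ring

/-- An overgroup is semilinear or contains all transvections. -/
theorem dichotomy : (∀ g ∈ G, ∀ k : K, ∃ a : K, ∀ v, g (k • v) = a • g v) ∨ Herm.tvGroup B ≤ G := by
  by_cases hm : ∀ g ∈ G, ∀ (u : V) (k : K), h u u = 0 → g (k • u) ∈ K ∙ g u
  · exact Or.inl fun g hg => T.semilinear (hm g hg)
  · push Not at hm
    exact Or.inr (T.tv_le hm)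

end IsThree

end Cfsg.Lib.Linear.UExt
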