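import Cfsg.Agent.Lib.Linear.UnitaryMax
import Cfsg.Agent.Lib.Linear.UExt.Semi
import Cfsg.Agent.Lib.Linear.UExt.Three

/-!
# The normaliser of an extension field is maximal in the special unitary group

A field subalgebra of prime degree closed under adjoints, with the dimension at least four times the degree,
or of degree five or three with the dimension twice the degree.
-/

set_option autoImplicit false
set_option linter.unusedSectionVars false

namespace Cfsg.Lib.Linear.UExt

open Module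
open scoped Matrix
open Cfsg.Lib.Linear

variable {F : Type*} [Field F] [Fintype F] {n q : ℕ}

local notation "M" => Matrix (Fin n) (Fin n) F
local notation "𝕍" => (Fin n → F)

/-- The natural module over a subalgebra of matrices. -/
@[reducible] def moduleK (K : Subalgebra F M) : Module K 𝕍 :=
  { smul := fun s v => (s : M) *ᵥ v
    one_smul := fun v => Matrix.one_mulVec v
    mul_smul := fun s t v => (Matrix.mulVec_mulVec v (s : M) (t : M)).symm
    smul_zero := fun s => Matrix.mulVec_zero _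
    smul_add := fun s v w => Matrix.mulVec_add _ v w
    add_smul := fun s t v => Matrix.add_mulVec _ _ v
    zero_smul := fun v => Matrix.zero_mulVec v }

theorem isField_of (K : Subalgebra F M) (hn : 0 < n) (hcomm : ∀ x ∈ K, ∀ y ∈ K, x * y = y * x)
    (hinv : ∀ x ∈ K, x ≠ 0 → ∃ y ∈ K, x * y = 1) : IsField K where
  exists_pair_ne := ⟨0, 1, fun h => by
    have := congrFun (congrFun (congrArg Subtype.val h) ⟨0, hn⟩) ⟨0, hn⟩
    simp at this⟩
  mul_comm x y := Subtype.ext (hcomm _ x.2 _ y.2)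
  mul_inv_cancel {x} hx := by
    obtain ⟨y, hy, h⟩ := hinv _ x.2 fun h => hx (Subtype.ext h)
    exact ⟨⟨y, hy⟩, Subtype.ext h⟩

set_option synthInstance.maxHeartbeats 400000 in
set_option maxHeartbeats 3200000 in
/-- The normaliser of the field is maximal, in the two cases. -/
theorem maximal_cases (hF : Fintype.card F = q ^ 2) {r : ℕ} (hr : r.Prime) (K : Subalgebra F M)
    (hK : Cfsg.Geo.IsFieldSubalgebra r K) (hac : Cfsg.Geo.IsAdjointClosedFor (Cfsg.hermForm n F q) K)
    (hcase : 4 * r ≤ n ∨ r = 5 ∧ n = 10 ∨ r = 3 ∧ n = 6 ∧ 3 ≤ q) :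
    Cfsg.Geo.IsMaximalIn (Cfsg.GU n F q ⊓ Cfsg.Geo.specialLinear (Fin n) F)
      (Cfsg.Geo.subalgebraNormalizer K ⊓ (Cfsg.GU n F q ⊓ Cfsg.Geo.specialLinear (Fin n) F)) := by
  classical
  have hr2 := hr.two_le
  letI : Field K := (isField_of K (by omega) hK.comm hK.inv).toField
  letI : Module K 𝕍 := moduleK K
  haveI : IsScalarTower F K 𝕍 :=
    ⟨fun c k v => show (c • (k : M)) *ᵥ v = c • ((k : M) *ᵥ v) from Matrix.smul_mulVec c _ v⟩
  haveI : Finite K := inferInstance
  haveI : FiniteDimensional F K := inferInstance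
  haveI : FiniteDimensional K 𝕍 := Module.Finite.of_restrictScalars_finite F K _
  have hrK : finrank F K = r := hK.finrank_eq
  have hdim : r * finrank K 𝕍 = n := by
    have h := Module.finrank_mul_finrank F K 𝕍
    rwa [hrK, finrank_fin_fun] at h
  have hd : 4 ≤ finrank K 𝕍 ∨ r = 5 ∧ finrank K 𝕍 = 2 ∨ r = 3 ∧ finrank K 𝕍 = 2 ∧ 3 ≤ q := by
    rcases hcase with h4 | ⟨rfl, rfl⟩ | ⟨rfl, rfl, hq⟩
    · left
      by_contra hlt
      have : r * finrank K 𝕍 ≤ r * 3 := Nat.mul_le_mul_left r (by omega)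
      omega
    · exact Or.inr (Or.inl ⟨rfl, by omega⟩)
    · exact Or.inr (Or.inr ⟨rfl, by omega, hq⟩)
  have hd2 : 2 ≤ finrank K 𝕍 := by omega
  set σ := Herm.frob hF with hσ
  set B := Herm.hB hF n with hBd
  have hσ2 : ∀ a, σ (σ a) = a := Herm.frob_frob hF
  have hC : Herm.Big.Space B :=
    ⟨Herm.frob_ne_id hF, hσ2, Herm.hB_isSymm hF n, Herm.hB_nondegenerate hF n,
      by rw [finrank_fin_fun]; omega⟩
  have cB : UTensor.Form B := ⟨hC.ne_id, hC.invol, hC.symm, hC.ndeg⟩
  -- the adjoint map on the field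
  have hadj : ∀ k : K, ∃ k' : K, ∀ x y : 𝕍, B x (k • y) = B (k' • x) y := fun k => by
    obtain ⟨k', hk', he⟩ := hac k k.2
    refine ⟨⟨k', hk'⟩, fun x y => ?_⟩
    rw [hBd, Herm.hB_apply, Herm.hB_apply]
    exact he y x
  choose ρ₀ hρ₀ using hadj
  obtain ⟨x₀, hx₀⟩ : ∃ x : 𝕍, x ≠ 0 :=
    ⟨Pi.single ⟨0, by omega⟩ 1, fun h0 => by simpa using congrFun h0 ⟨0, by omega⟩⟩
  have huniq : ∀ a b : K, (∀ x y, B (a • x) y = B (b • x) y) → a = b := fun a b hab =>
    smul_left_injective K hx₀ (cB.ext_left fun w => hab x₀ w)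
  let ρ : K →+* K :=
    { toFun := ρ₀
      map_one' := huniq _ _ fun x y => by rw [← hρ₀, one_smul, one_smul]
      map_mul' := fun a b => huniq _ _ fun x y => by
        rw [← hρ₀, mul_smul, hρ₀, hρ₀, smul_smul, mul_comm]
      map_zero' := huniq _ _ fun x y => by rw [← hρ₀, zero_smul, zero_smul, map_zero, map_zero, LinearMap.zero_apply]
      map_add' := fun a b => huniq _ _ fun x y => by
        rw [← hρ₀, add_smul, map_add, hρ₀, hρ₀, add_smul, map_add, LinearMap.add_apply] }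
  have hρ : ∀ (k : K) x y, B x (k • y) = B (ρ k • x) y := hρ₀
  have hρ' : ∀ (k : K) x y, B (k • x) y = B x (ρ k • y) := fun k x y => by
    rw [← cB.symm.eq y (k • x), hρ, cB.symm.eq]
  have hinv : ∀ k, ρ (ρ k) = k := fun k => huniq _ _ fun x y => by rw [← hρ, ← hρ']
  have hcompat : ∀ a : F, ρ (algebraMap F K a) = algebraMap F K (σ a) := fun a => huniq _ _ fun x y => by
    rw [← hρ, algebraMap_smul, algebraMap_smul, map_smul, LinearMap.map_smulₛₗ, LinearMap.smul_apply, hσ2]
  have hne : ρ ≠ RingHom.id K := by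
    intro h
    refine hC.ne_id (RingHom.ext fun a => (algebraMap F K).injective ?_)
    rw [← hcompat, h, RingHom.id_apply, RingHom.id_apply]
  have htrc : ∀ k : K, Algebra.trace F K (ρ k) = σ (Algebra.trace F K k) := by
    intro k
    refine (algebraMap F K).injective ?_
    rw [← hcompat, FiniteField.algebraMap_trace_eq_sum_pow, FiniteField.algebraMap_trace_eq_sum_pow, map_sum]
    simp only [map_pow]
  -- the form over the extension
  let φ : 𝕍 → 𝕍 → Module.Dual F K := fun x y =>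
    (B x) ∘ₗ (LinearMap.toSpanSingleton K 𝕍 y).restrictScalars F
  have hex : ∀ x y, ∃ a : K, ∀ k : K, Algebra.trace F K (k * a) = B x (k • y) := fun x y => by
    refine ⟨((Algebra.traceForm F K).toDual (traceForm_nondegenerate F K)).symm (φ x y), fun k => ?_⟩
    have := LinearMap.BilinForm.apply_toDual_symm_apply (hB := traceForm_nondegenerate F K) (φ x y) k
    rw [Algebra.traceForm_apply, mul_comm] at this
    exact this
  choose hf hfs using hex
  have hext : ∀ {a b : K}, (∀ k, Algebra.trace F K (k * a) = Algebra.trace F K (k * b)) → a = b := by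
    intro a b e
    refine sub_eq_zero.1 ((traceForm_nondegenerate F K).1 _ fun k => ?_)
    rw [Algebra.traceForm_apply, mul_comm, mul_sub, map_sub, e, sub_self]
  let h : 𝕍 →ₛₗ[ρ] 𝕍 →ₗ[K] K := LinearMap.mk₂'ₛₗ ρ (RingHom.id K) hf
    (fun x x' y => hext fun k => by simp only [hfs, mul_add, map_add, LinearMap.add_apply])
    (fun c x y => hext fun k => by
      simp only [smul_eq_mul, ← mul_assoc, hfs]
      rw [hρ', smul_smul, mul_comm])
    (fun x y y' => hext fun k => by simp only [hfs, mul_add, smul_add, map_add])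
    (fun c x y => hext fun k => by
      simp only [RingHom.id_apply, smul_eq_mul, ← mul_assoc, hfs, smul_smul])
  have hhf : ∀ x y, h x y = hf x y := fun x y => rfl
  have htr : ∀ x y, B x y = Algebra.trace F K (h x y) := fun x y => by
    rw [hhf, ← one_mul (hf x y), hfs, one_smul]
  have hsymm : h.IsSymm := ⟨fun x y => hext fun k => by
    rw [hhf, hhf, hfs, show k * ρ (hf x y) = ρ (ρ k * hf x y) by rw [map_mul, hinv], htrc, hfs, cB.symm.eq,
      hρ' (ρ k), hinv]⟩
  have hsep : ∀ x, (∀ y, h x y = 0) → x = 0 := fun x hx => cB.ext_left fun w => by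
    rw [htr, hx, map_zero, map_zero, LinearMap.zero_apply]
  have ch : UTensor.Form h :=
    ⟨hne, hinv, hsymm, hsep, fun y hy => hsep y fun x => hsymm.isRefl _ _ (hy x)⟩
  have D : Data B h := ⟨cB, ch, htr, hcompat, htrc, by rw [hrK]; exact hr, hd2⟩
  -- transfer to matrices
  set e := Herm.UMax.glEquiv n F with he
  have hev : ∀ (g : GL (Fin n) F) v, e g v = (g : M) *ᵥ v := fun g v => rfl
  have hdet : ∀ g : GL (Fin n) F, LinearEquiv.det (e g) = Matrix.GeneralLinearGroup.det g := fun g => by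
    refine Units.ext ?_
    rw [LinearEquiv.coe_det]
    exact LinearMap.det_toLin' _
  have hS : ∀ g : GL (Fin n) F,
      g ∈ Cfsg.GU n F q ⊓ Cfsg.Geo.specialLinear (Fin n) F ↔ e g ∈ Herm.tvGroup B := fun g => by
    rw [Herm.Big.mem_tv hC, hdet, Subgroup.mem_inf]
    exact and_congr ⟨fun hg u v => hg v u, fun hg u v => hg v u⟩ MonoidHom.mem_ker
  have hiff : ∀ g : GL (Fin n) F, g ∈ Cfsg.Geo.subalgebraNormalizer K ↔
      ∀ k : K, ∃ a : K, ∀ v, e g (k • v) = a • e g v := by
    intro g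
    constructor
    · intro hg k
      refine ⟨⟨_, (hg k).1 k.2⟩, fun v => ?_⟩
      show (g : M) *ᵥ ((k : M) *ᵥ v) = ((g : M) * (k : M) * ((g⁻¹ : GL (Fin n) F) : M)) *ᵥ ((g : M) *ᵥ v)
      rw [Matrix.mulVec_mulVec, Matrix.mulVec_mulVec, mul_assoc _ _ (g : M), ← Units.val_mul, inv_mul_cancel,
        Units.val_one, mul_one]
    · intro hg
      have hin : ∀ k ∈ K, (g : M) * k * ((g⁻¹ : GL (Fin n) F) : M) ∈ K := by
        intro k hk
        obtain ⟨a, ha⟩ := hg ⟨k, hk⟩
        have : (g : M) * k = (a : M) * (g : M) := Matrix.toLin'.injective (LinearMap.ext fun v => by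
          rw [Matrix.toLin'_apply, Matrix.toLin'_apply, ← Matrix.mulVec_mulVec, ← Matrix.mulVec_mulVec]
          exact ha v)
        rw [this, mul_assoc, ← Units.val_mul, mul_inv_cancel, Units.val_one, mul_one]
        exact a.2
      intro k
      refine ⟨hin k, fun hk => ?_⟩
      let Φ : K → K := fun a => ⟨_, hin a a.2⟩
      have hΦ : Function.Injective Φ := fun a b h => Subtype.ext (by
        have h' : (g : M) * (a : M) * ((g⁻¹ : GL (Fin n) F) : M) =
          (g : M) * (b : M) * ((g⁻¹ : GL (Fin n) F) : M) := congrArg Subtype.val h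
        exact (Units.mul_right_inj g).1 ((Units.mul_left_inj g⁻¹).1 h'))
      obtain ⟨a, ha⟩ := Finite.surjective_of_injective hΦ ⟨_, hk⟩
      have h' : (g : M) * (a : M) * ((g⁻¹ : GL (Fin n) F) : M) =
        (g : M) * k * ((g⁻¹ : GL (Fin n) F) : M) := congrArg Subtype.val ha
      have : (a : M) = k := (Units.mul_right_inj g).1 ((Units.mul_left_inj g⁻¹).1 h')
      exact this ▸ a.2
  refine ⟨lt_of_le_of_ne inf_le_right fun heq => ?_, fun L hL hL' => ?_⟩
  · obtain ⟨t, ht, htn⟩ := D.exists_not_semilinear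
    obtain ⟨g, rfl⟩ := e.surjective t
    have h1 := (heq.symm ▸ (hS g).2 ht : g ∈ Cfsg.Geo.subalgebraNormalizer K ⊓
      (Cfsg.GU n F q ⊓ Cfsg.Geo.specialLinear (Fin n) F))
    exact htn ((hiff g).1 h1.1)
  · have hiso' : ∀ g ∈ L.map e.toMonoidHom, ∀ x y, B (g x) (g y) = B x y := by
      rintro _ ⟨g, hg, rfl⟩
      exact ((Herm.Big.mem_tv hC).1 ((hS g).1 (hL' hg))).1
    have hklin : ∀ f : 𝕍 ≃ₗ[K] 𝕍, f ∈ Herm.iso h → LinearEquiv.det (f.restrictScalars F) = 1 →
        f.restrictScalars F ∈ L.map e.toMonoidHom := fun f hf hdetF => by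
      obtain ⟨g, hg⟩ := e.surjective (f.restrictScalars F)
      have hfv : ∀ v, e g v = f v := fun v => by rw [hg]; rfl
      have hiso : f.restrictScalars F ∈ Herm.iso B := fun x y => by
        show B (f x) (f y) = B x y
        rw [htr, htr, hf]
      refine ⟨g, hL ⟨(hiff g).2 fun k => ⟨k, fun v => by rw [hfv, hfv, map_smul]⟩, (hS g).2 ?_⟩, hg⟩
      rw [hg]
      exact (Herm.Big.mem_tv hC).2 ⟨hiso, hdetF⟩
    have hdich : (∀ g ∈ L.map e.toMonoidHom, ∀ k : K, ∃ a : K, ∀ v, g (k • v) = a • g v) ∨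
        Herm.tvGroup B ≤ L.map e.toMonoidHom := by
      rcases hd with h4 | ⟨h5, h2⟩ | ⟨h3, h2, hq⟩
      · refine D.dichotomy hiso' (fun f hf hfd => hklin f hf (Units.ext ?_)) h4
        rw [LinearEquiv.coe_det]
        show LinearMap.det ((f : 𝕍 →ₗ[K] 𝕍).restrictScalars F) = 1
        rw [LinearMap.det_restrictScalars, ← LinearEquiv.coe_det, hfd, Units.val_one, map_one]
      · exact IsTwo.dichotomy ⟨⟨D, h2, hiso', hklin⟩, hrK.trans h5⟩
      · exact IsThree.dichotomy ⟨⟨D, h2, hiso', hklin⟩, hrK.trans h3,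
          by rw [Nat.card_eq_fintype_card, hF]; exact le_trans (by norm_num) (Nat.pow_le_pow_left hq 2)⟩
    rcases hdich with hA | hA
    · exact Or.inl (le_antisymm (fun g hg => ⟨(hiff g).2 (hA _ ⟨g, hg, rfl⟩), hL' hg⟩) hL)
    · refine Or.inr (le_antisymm hL' fun g hg => ?_)
      obtain ⟨g', hg', heq⟩ := hA ((hS g).1 hg)
      exact e.injective heq ▸ hg'

/-- The normaliser of the field is maximal. -/
theorem maximal (hF : Fintype.card F = q ^ 2) {r : ℕ} (hr : r.Prime) (K : Subalgebra F M)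
    (hK : Cfsg.Geo.IsFieldSubalgebra r K) (hac : Cfsg.Geo.IsAdjointClosedFor (Cfsg.hermForm n F q) K)
    (h4 : 4 * r ≤ n) :
    Cfsg.Geo.IsMaximalIn (Cfsg.GU n F q ⊓ Cfsg.Geo.specialLinear (Fin n) F)
      (Cfsg.Geo.subalgebraNormalizer K ⊓ (Cfsg.GU n F q ⊓ Cfsg.Geo.specialLinear (Fin n) F)) :=
  maximal_cases hF hr K hK hac (Or.inl h4)

/-- The normaliser of a field of degree five in dimension ten is maximal. -/
theorem maximal_ten {F : Type*} [Field F] [Fintype F] {q : ℕ} (hF : Fintype.card F = q ^ 2)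
    (K : Subalgebra F (Matrix (Fin 10) (Fin 10) F)) (hK : Cfsg.Geo.IsFieldSubalgebra 5 K)
    (hac : Cfsg.Geo.IsAdjointClosedFor (Cfsg.hermForm 10 F q) K) :
    Cfsg.Geo.IsMaximalIn (Cfsg.GU 10 F q ⊓ Cfsg.Geo.specialLinear (Fin 10) F)
      (Cfsg.Geo.subalgebraNormalizer K ⊓ (Cfsg.GU 10 F q ⊓ Cfsg.Geo.specialLinear (Fin 10) F)) :=
  maximal_cases hF Nat.prime_five K hK hac (Or.inr (Or.inl ⟨rfl, rfl⟩))

/-- The normaliser of a field of degree three in dimension six is maximal. -/
theorem maximal_six {F : Type*} [Field F] [Fintype F] {q : ℕ} (hF : Fintype.card F = q ^ 2) (hq : 3 ≤ q)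
    (K : Subalgebra F (Matrix (Fin 6) (Fin 6) F)) (hK : Cfsg.Geo.IsFieldSubalgebra 3 K)
    (hac : Cfsg.Geo.IsAdjointClosedFor (Cfsg.hermForm 6 F q) K) :
    Cfsg.Geo.IsMaximalIn (Cfsg.GU 6 F q ⊓ Cfsg.Geo.specialLinear (Fin 6) F)
      (Cfsg.Geo.subalgebraNormalizer K ⊓ (Cfsg.GU 6 F q ⊓ Cfsg.Geo.specialLinear (Fin 6) F)) :=
  maximal_cases hF Nat.prime_three K hK hac (Or.inr (Or.inr ⟨rfl, rfl, hq⟩))

end Cfsg.Lib.Linear.UExt
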