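import Cfsg.Agent.Lib.Linear.UExt.Basic
import Cfsg.Agent.Lib.Linear.UTensor.Poly

/-!
# An element moving an isotropic line in rank one

Among the pairings of images of isotropic lines with isotropic lines of minimal positive rank below the
degree, the values span the ground field: otherwise a determinant of small degree vanishes.
-/

set_option autoImplicit false
set_option linter.unusedSectionVars false

namespace Cfsg.Lib.Linear.UExt

open Module
open Cfsg.Lib.Linear
open Cfsg.Lib.Linear.ExtField (InG)

variable {F K V : Type*} [Field F] [Finite F] [Field K] [Finite K] [Algebra F K] [FiniteDimensional F K]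
  [AddCommGroup V] [Module F V] [Module K V] [IsScalarTower F K V] [FiniteDimensional F V] [FiniteDimensional K V]
  {σ : F →+* F} {ρ : K →+* K} {B : V →ₛₗ[σ] V →ₗ[F] F} {h : V →ₛₗ[ρ] V →ₗ[K] K}
  {G : Subgroup (V ≃ₗ[F] V)}

namespace Data

variable (D : Data B h)
include D

/-- The space of products `y * ρ x` is no bigger than a space on which no form degenerates partially. -/
theorem prods_le (J : Submodule F K)
    (hmin : ∀ c, ρ c = c → (∀ x ∈ J, ∀ y ∈ J, Algebra.trace F K (c * y * ρ x) = 0) ∨
      ∀ y ∈ J, (∀ x ∈ J, Algebra.trace F K (c * y * ρ x) = 0) → y = 0) :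
    finrank F (Submodule.span F {z : K | ∃ x ∈ J, ∃ y ∈ J, z = y * ρ x}) ≤ finrank F J := by
  classical
  set P := Submodule.span F {z : K | ∃ x ∈ J, ∃ y ∈ J, z = y * ρ x} with hP
  by_contra hlt
  push Not at hlt
  set s := finrank F J with hs
  let Λ : K →ₗ[F] Module.Dual F P := (LinearMap.domRestrict' P) ∘ₗ (Algebra.traceForm F K)
  have hΛ : ∀ (c : K) (z : P), Λ c z = Algebra.trace F K (c * (z : K)) := fun c z => rfl
  have hsurj : Function.Surjective Λ := by
    intro φ
    obtain ⟨ψ, hψ⟩ := LinearMap.exists_extend φ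
    refine ⟨((Algebra.traceForm F K).toDual (traceForm_nondegenerate F K)).symm ψ, LinearMap.ext fun z => ?_⟩
    rw [hΛ, ← Algebra.traceForm_apply,
      LinearMap.BilinForm.apply_toDual_symm_apply (hB := traceForm_nondegenerate F K), ← hψ]
    rfl
  have htop : Submodule.span F (Λ '' {c : K | ρ c = c}) = ⊤ := by
    rw [Submodule.span_image, eq_top_iff]
    intro φ _
    obtain ⟨k, rfl⟩ := hsurj φ
    exact ⟨k, D.mem_real_span k, rfl⟩
  obtain ⟨t, hts, hspan, hind⟩ := exists_linearIndependent F (Λ '' {c : K | ρ c = c})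
  have htfin : t.Finite := hind.setFinite
  have := htfin.fintype
  have hcard : finrank F P ≤ Fintype.card t := by
    have h1 := finrank_span_set_eq_card (R := F) hind
    rw [hspan, htop, finrank_top, Subspace.dual_finrank_eq] at h1
    rw [h1, Set.toFinset_card]
  obtain ⟨emb⟩ : Nonempty (Fin (s + 1) ↪ t) :=
    Function.Embedding.nonempty_of_card_le (by rw [Fintype.card_fin]; omega)
  choose c hc hcΛ using fun i : Fin (s + 1) => hts (emb i).2
  have hindc : LinearIndependent F (fun i => Λ (c i)) := by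
    have := hind.comp emb emb.injective
    rwa [show (Subtype.val ∘ emb : Fin (s + 1) → Module.Dual F P) = fun i => Λ (c i) from
      funext fun i => (hcΛ i).symm] at this
  let b := Module.finBasis F J
  let M : Matrix (Fin s) (Fin s) (MvPolynomial (Fin (s + 1)) F) :=
    Matrix.of fun i j => UTensor.linPoly (fun l => Algebra.trace F K (c l * (b j : K) * ρ (b i : K)))
  have hev : ∀ x : Fin (s + 1) → F, MvPolynomial.eval x M.det =
      Matrix.det (Matrix.of fun i j => ∑ l, Algebra.trace F K (c l * (b j : K) * ρ (b i : K)) * x l) := by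
    intro x
    rw [RingHom.map_det]
    congr 1
    ext i j
    simp [M, UTensor.eval_linPoly]
  have hherm : ∀ x : Fin (s + 1) → F, (∀ l, σ (x l) = x l) →
      σ (MvPolynomial.eval x M.det) = MvPolynomial.eval x M.det := by
    intro x hx
    rw [hev, RingHom.map_det, ← Matrix.det_transpose]
    congr 1
    ext i j
    simp only [Matrix.transpose_apply, RingHom.mapMatrix_apply, Matrix.map_apply, Matrix.of_apply, map_sum,
      map_mul, hx]
    refine Finset.sum_congr rfl fun l _ => ?_
    rw [← D.tr_conj, show ρ (c l * (b i : K) * ρ (b j : K)) = c l * (b j : K) * ρ (b i : K) by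
      rw [map_mul, map_mul, hc, D.invK]; ring]
  have h0 : MvPolynomial.eval (0 : Fin (s + 1) → F) M.det = 0 := by
    rw [hev]
    have hne : Nonempty (Fin s) := by
      rcases Nat.eq_zero_or_pos s with h0 | h0
      · exfalso
        have hJ : J = ⊥ := Submodule.finrank_eq_zero.1 h0
        have : P = ⊥ := by
          rw [hP, Submodule.span_eq_bot]
          rintro z ⟨x, hx, y, hy, rfl⟩
          rw [hJ, Submodule.mem_bot] at hy
          rw [hy, zero_mul]
        rw [this, finrank_bot] at hlt
        omega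
      · exact ⟨⟨0, h0⟩⟩
    convert Matrix.det_zero (n := Fin s) (R := F)
    ext i j
    simp
  obtain ⟨x, hx0, hxf, hxdet, -⟩ := UTensor.exists_zero D.cB.ne_id D.cB.invol M.det (0 : MvPolynomial (Fin (s + 1)) F)
    (by
      rw [MvPolynomial.totalDegree_zero, add_zero, Fintype.card_fin]
      refine lt_of_le_of_lt (UTensor.totalDegree_det_le M fun i j => UTensor.totalDegree_linPoly _) ?_
      simp)
    hherm (fun x _ => by simp) h0 (by simp)
  set C := ∑ l, x l • c l with hC
  have hCr : ρ C = C := by
    have hc' : ∀ i, ρ (c i) = c i := hc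
    simp only [hC, map_sum, Algebra.smul_def, map_mul, D.compat, hxf, hc']
  have hentry : ∀ i j, Algebra.trace F K (C * (b j : K) * ρ (b i : K)) =
      ∑ l, Algebra.trace F K (c l * (b j : K) * ρ (b i : K)) * x l := by
    intro i j
    rw [hC, Finset.sum_mul, Finset.sum_mul, map_sum]
    refine Finset.sum_congr rfl fun l _ => ?_
    rw [smul_mul_assoc, smul_mul_assoc, map_smul, smul_eq_mul, mul_comm]
  rcases hmin C hCr with hz | hz
  · refine hx0 (funext fun l => Fintype.linearIndependent_iff.1 hindc x ?_ l)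
    refine LinearMap.ext_on (s := {z : P | ∃ x ∈ J, ∃ y ∈ J, (z : K) = y * ρ x}) ?_ ?_
    · rw [eq_top_iff]
      rintro ⟨z, hz'⟩ -
      induction hz' using Submodule.span_induction with
      | mem z hz' => exact Submodule.subset_span hz'
      | zero => exact Submodule.zero_mem _
      | add u v hu hv hu' hv' => exact Submodule.add_mem _ hu' hv'
      | smul a u hu hu' => exact Submodule.smul_mem _ a hu'
    · rintro ⟨z, _⟩ ⟨x', hx', y', hy', rfl : z = y' * ρ x'⟩
      rw [LinearMap.zero_apply, ← hz x' hx' y' hy']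
      simp only [LinearMap.sum_apply, LinearMap.smul_apply, hΛ, smul_eq_mul, hC, Finset.sum_mul, map_sum]
      refine Finset.sum_congr rfl fun l _ => ?_
      rw [smul_mul_assoc, smul_mul_assoc, map_smul, smul_eq_mul, mul_assoc (c l)]
  · rw [hev] at hxdet
    obtain ⟨v, hv0, hv⟩ := Matrix.exists_mulVec_eq_zero_iff.2 hxdet
    refine hv0 (funext fun j => ?_)
    have hy : (∑ j, v j • b j : J) = 0 := by
      refine Subtype.ext (hz _ (Subtype.mem _) fun x' hx' => ?_)
      have hb : ∀ i, Algebra.trace F K (C * ((∑ j, v j • b j : J) : K) * ρ (b i : K)) = 0 := fun i => by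
        refine Eq.trans ?_ ((congrFun hv i).trans (Pi.zero_apply i))
        simp only [Submodule.coe_sum, Submodule.coe_smul, Finset.mul_sum, Finset.sum_mul, map_sum,
          Matrix.mulVec, dotProduct, Matrix.of_apply]
        refine Finset.sum_congr rfl fun j _ => ?_
        rw [← Finset.sum_mul, ← hentry, mul_smul_comm, smul_mul_assoc, map_smul, smul_eq_mul, mul_comm]
      generalize ((∑ j, v j • b j : J) : K) = y₀ at hb ⊢
      rw [show x' = ((∑ i, b.repr ⟨x', hx'⟩ i • b i : J) : K) by rw [b.sum_repr]]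
      simp only [Submodule.coe_sum, Submodule.coe_smul, map_sum, Algebra.smul_def, map_mul, D.compat]
      rw [Finset.mul_sum, map_sum]
      refine Finset.sum_eq_zero fun i _ => ?_
      rw [mul_left_comm, ← Algebra.smul_def, map_smul, hb, smul_zero]
    exact Fintype.linearIndependent_iff.1 b.linearIndependent v hy j

/-- Such a space containing one is the ground field. -/
theorem line_of_nondeg (J : Submodule F K) (h1 : (1 : K) ∈ J) (hJ : finrank F J < finrank F K)
    (hmin : ∀ c, ρ c = c → (∀ x ∈ J, ∀ y ∈ J, Algebra.trace F K (c * y * ρ x) = 0) ∨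
      ∀ y ∈ J, (∀ x ∈ J, Algebra.trace F K (c * y * ρ x) = 0) → y = 0) :
    ∀ y ∈ J, ∃ a : F, y = algebraMap F K a := by
  set P := Submodule.span F {z : K | ∃ x ∈ J, ∃ y ∈ J, z = y * ρ x}
  have hle : J ≤ P := fun y hy => Submodule.subset_span ⟨1, h1, y, hy, by rw [map_one, mul_one]⟩
  have heq : J = P := Submodule.eq_of_le_of_finrank_le hle (D.prods_le J hmin)
  have hprod : ∀ x ∈ J, ∀ y ∈ J, y * ρ x ∈ J := fun x hx y hy =>
    heq ▸ Submodule.subset_span ⟨x, hx, y, hy, rfl⟩
  let S : Subalgebra F K :=
    { carrier := J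
      mul_mem' := fun {a b} ha hb => by
        have hb' : ρ b ∈ J := by simpa using hprod b hb 1 h1
        simpa [D.invK] using hprod (ρ b) hb' a ha
      one_mem' := h1
      add_mem' := fun ha hb => J.add_mem ha hb
      zero_mem' := J.zero_mem
      algebraMap_mem' := fun a => by
        rw [Algebra.algebraMap_eq_smul_one]
        exact J.smul_mem a h1 }
  have := Subalgebra.isSimpleOrder_of_finrank_prime F K D.prime
  rcases eq_bot_or_eq_top S with hS | hS
  · intro y hy
    obtain ⟨a, ha⟩ := Algebra.mem_bot.1 (hS ▸ (show y ∈ S from hy))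
    exact ⟨a, ha.symm⟩
  · exfalso
    have : J = ⊤ := eq_top_iff.2 fun k _ => show k ∈ S from hS ▸ Algebra.mem_top
    rw [this, finrank_top] at hJ
    omega

end Data

/-- The pairing of an image of a line with a line. -/
def pair (h : V →ₛₗ[ρ] V →ₗ[K] K) (g : V ≃ₗ[F] V) (u p : V) : K →ₗ[F] K :=
  (h p).restrictScalars F ∘ₗ (g : V →ₗ[F] V) ∘ₗ (LinearMap.toSpanSingleton K V u).restrictScalars F

@[simp] theorem pair_apply (g : V ≃ₗ[F] V) (u p : V) (k : K) : pair h g u p k = h p (g (k • u)) := rfl

/-- A pairing of rank one. -/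
structure RankOne (h : V →ₛₗ[ρ] V →ₗ[K] K) (G : Subgroup (V ≃ₗ[F] V)) (g : V ≃ₗ[F] V) (u p : V)
    (τ : K →ₗ[F] F) : Prop where
  mem : g ∈ G
  iso_u : h u u = 0
  iso_p : h p p = 0
  ne : τ ≠ 0
  eq : ∀ k, h p (g (k • u)) = algebraMap F K (τ k)

/-- A pairing which is neither zero nor injective gives one of rank one. -/
theorem Data.rankOne_of_pair (D : Data B h) (hisom : ∀ g ∈ G, ∀ x y, B (g x) (g y) = B x y)
    (hroots : ∀ v, h v v = 0 → ∀ a : K, ρ a = -a → InG G (root h v a))
    {g₁ : V ≃ₗ[F] V} (hg₁ : g₁ ∈ G) {u₁ p₁ : V} (huu₁ : h u₁ u₁ = 0) (hpp₁ : h p₁ p₁ = 0)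
    (h0 : pair h g₁ u₁ p₁ ≠ 0) (hker : LinearMap.ker (pair h g₁ u₁ p₁) ≠ ⊥) :
    ∃ g u p τ, RankOne h G g u p τ := by
  classical
  let Q : ℕ → Prop := fun s => ∃ g ∈ G, ∃ u p, h u u = 0 ∧ h p p = 0 ∧
    finrank F (LinearMap.range (pair h g u p)) = s ∧ 0 < s ∧ s < finrank F K
  have hex : ∃ s, Q s := by
    have h1 := (pair h g₁ u₁ p₁).finrank_range_add_finrank_ker
    refine ⟨_, g₁, hg₁, u₁, p₁, huu₁, hpp₁, rfl,
      Nat.pos_of_ne_zero fun e => h0 (LinearMap.range_eq_bot.1 (Submodule.finrank_eq_zero.1 e)), ?_⟩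
    have : finrank F (LinearMap.ker (pair h g₁ u₁ p₁)) ≠ 0 := fun e => hker (Submodule.finrank_eq_zero.1 e)
    omega
  obtain ⟨g, hg, u, p₀, huu, hpp₀, hs, hs0, hsr⟩ := Nat.find_spec hex
  obtain ⟨x₀, ⟨k₀, hk₀⟩, hx₀⟩ := (Submodule.ne_bot_iff _).1
    (show LinearMap.range (pair h g u p₀) ≠ ⊥ from fun e => by rw [e, finrank_bot] at hs; omega)
  set p := ρ x₀⁻¹ • p₀ with hp
  have hpp : h p p = 0 := by
    simp [hp, hpp₀]
  set f := pair h g u p with hfdef
  have hf : ∀ k, f k = x₀⁻¹ * pair h g u p₀ k := fun k => by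
    rw [hfdef, pair_apply, pair_apply, hp, LinearMap.map_smulₛₗ, LinearMap.smul_apply, D.invK, smul_eq_mul]
  have hfs : finrank F (LinearMap.range f) = Nat.find hex := by
    rw [show f = LinearMap.mulLeft F x₀⁻¹ ∘ₗ pair h g u p₀ from LinearMap.ext fun k => hf k,
      LinearMap.range_comp, ← hs]
    exact (Submodule.equivMapOfInjective _ (mul_right_injective₀ (inv_ne_zero hx₀)) _).finrank_eq.symm
  have h1J : (1 : K) ∈ LinearMap.range f := ⟨k₀, by rw [hf, hk₀, inv_mul_cancel₀ hx₀]⟩
  have hline := D.line_of_nondeg (LinearMap.range f) h1J (by omega) fun c hc => by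
    obtain ⟨η₀, hη₀, hη⟩ := D.exists_anti
    set b := algebraMap F K η₀ * c with hb
    have hb' : ρ b = -b := by rw [hb, map_mul, D.compat, hη, map_neg, hc, neg_mul]
    obtain ⟨X, hX, hXa⟩ := hroots p hpp b hb'
    set g₂ : V ≃ₗ[F] V := g⁻¹ * X * g with hg₂d
    have hg₂ : g₂ ∈ G := G.mul_mem (G.mul_mem (G.inv_mem hg) hX) hg
    have happ : ∀ k : K, g (g₂ (k • u)) = g (k • u) + (b * f k) • p := fun k => by
      show g (g.symm (X (g (k • u)))) = _
      rw [g.apply_symm_apply, hXa]
      rfl
    set f' := pair h g₂ u u with hf'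
    have htr : ∀ k' k, Algebra.trace F K (ρ k' * f' k) = η₀ * Algebra.trace F K (c * f k * ρ (f k')) := by
      intro k' k
      rw [hf', pair_apply, ← D.smul_left, ← hisom g hg, happ, map_add, hisom g hg, D.smul_left, map_smul,
        huu, smul_zero, mul_zero, map_zero, zero_add, D.smul_right,
        D.ch.flip_apply p (g (k' • u)), show h p (g (k' • u)) = f k' from rfl, hb,
        show algebraMap F K η₀ * c * f k * ρ (f k') = (c * f k * ρ (f k')) * algebraMap F K η₀ by ring,
        D.trace_mul_algebraMap, mul_comm]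
    by_cases hz : f' = 0
    · left
      rintro _ ⟨k', rfl⟩ _ ⟨k, rfl⟩
      have h1 := htr k' k
      rw [hz, LinearMap.zero_apply, mul_zero, map_zero, eq_comm, mul_eq_zero] at h1
      exact h1.resolve_left hη₀
    · right
      rintro _ ⟨k, rfl⟩ hk
      by_contra hfk
      have hk' : k ∈ LinearMap.ker f' := LinearMap.mem_ker.2 (D.ext_trace fun k' => by
        rw [htr, hk _ ⟨k', rfl⟩, mul_zero, mul_zero, map_zero])
      have hker : LinearMap.ker f ≤ LinearMap.ker f' := fun z hz => LinearMap.mem_ker.2 (D.ext_trace fun k' => by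
        rw [LinearMap.mem_ker] at hz
        rw [htr, hz, mul_zero, zero_mul, map_zero, mul_zero, mul_zero, map_zero])
      have hlt : LinearMap.ker f < LinearMap.ker f' := lt_of_le_of_ne hker fun e =>
        hfk (LinearMap.mem_ker.1 (e ▸ hk'))
      have h1 := Submodule.finrank_lt_finrank_of_lt hlt
      have h2 := f.finrank_range_add_finrank_ker
      have h3 := f'.finrank_range_add_finrank_ker
      refine Nat.find_min hex (m := finrank F (LinearMap.range f')) (by omega)
        ⟨g₂, hg₂, u, u, huu, huu, rfl, Nat.pos_of_ne_zero fun e =>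
          hz (LinearMap.range_eq_bot.1 (Submodule.finrank_eq_zero.1 e)), by omega⟩
  choose τ hτ using fun k => hline (f k) ⟨k, rfl⟩
  have hinj := (algebraMap F K).injective
  let τ' : K →ₗ[F] F :=
    { toFun := τ
      map_add' := fun a b => hinj (by rw [← hτ, map_add, map_add, ← hτ, ← hτ])
      map_smul' := fun c a => hinj (by
        rw [RingHom.id_apply, smul_eq_mul, map_mul, ← hτ, ← hτ, map_smul, Algebra.smul_def]) }
  refine ⟨g, u, p, τ', hg, huu, hpp, fun e => ?_, hτ⟩
  obtain ⟨k₁, hk₁⟩ := h1J
  have h1 := hτ k₁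
  rw [hk₁, show τ k₁ = τ' k₁ from rfl, e, LinearMap.zero_apply, map_zero] at h1
  exact one_ne_zero h1


theorem Over.exists_rankOne (hG : Over B h G) (D : Data B h) (h4 : 4 ≤ finrank K V) :
    ∃ g u p τ, RankOne h G g u p τ := by
  classical
  obtain ⟨g, hg, u, k, huu, hk⟩ := hG.moved
  obtain ⟨q, hq, hq1⟩ := D.exists_dual hk
  -- an isotropic vector pairing like `q`
  obtain ⟨p, hpp, hp1, hp0⟩ : ∃ p, h p p = 0 ∧ h p (g (k • u)) ≠ 0 ∧ h p (g u) = 0 := by
    by_contra hcon
    push Not at hcon
    have hker : ∀ z ∈ Submodule.span K {z | h z z = 0 ∧ h z (g u) = 0}, h z (g (k • u)) = 0 := by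
      intro z hz
      induction hz using Submodule.span_induction with
      | mem z hz =>
        by_contra hne
        exact hcon z hz.1 hne hz.2
      | zero => simp
      | add a b _ _ ha hb => rw [map_add, LinearMap.add_apply, ha, hb, add_zero]
      | smul a b _ hb => rw [LinearMap.map_smulₛₗ, LinearMap.smul_apply, hb, smul_zero]
    refine one_ne_zero (α := K) (hq.symm.trans (hker q ?_))
    set S := Submodule.span K {z | h z z = 0 ∧ h z (g u) = 0}
    set y := g u
    -- the isotropic vectors orthogonal to `y` span its orthogonal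
    set P := LinearMap.ker (h y)
    have hP : ∀ z, z ∈ P ↔ h z y = 0 := fun z =>
      ⟨fun hz => D.ch.swap_zero hz, fun hz => D.ch.swap_zero hz⟩
    have hPd : finrank K V ≤ finrank K P + 1 := by
      show finrank K V ≤ finrank K (LinearMap.ker (h y)) + 1
      have h4 := (h y).finrank_range_add_finrank_ker
      have h5 := Submodule.finrank_le (LinearMap.range (h y))
      rw [finrank_self] at h5
      omega
    have hrad : ∀ w ∈ P, (∀ z ∈ P, h w z = 0) → w ∈ K ∙ y := by
      intro w _ hwz
      obtain ⟨a, ha⟩ : ∃ a : K, h w = a • h y := by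
        have hmem : h w ∈ Submodule.span K (Set.range ![h y]) :=
          FiniteDimensional.mem_span_of_iInf_ker_le_ker fun z hz => by
            rw [Submodule.mem_iInf] at hz
            exact LinearMap.mem_ker.2 (hwz z (hz 0))
        rw [show Set.range ![h y] = {h y} by simp] at hmem
        obtain ⟨a, ha⟩ := Submodule.mem_span_singleton.1 hmem
        exact ⟨a, ha.symm⟩
      refine Submodule.mem_span_singleton.2 ⟨ρ a, D.ch.ext_left fun z => ?_⟩
      rw [LinearMap.map_smulₛₗ, D.invK, LinearMap.smul_apply, ← LinearMap.smul_apply, ← ha]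
    -- an isotropic vector of `P` outside the radical
    obtain ⟨w₀, hw₀P, hw₀y⟩ : ∃ w ∈ P, w ∉ K ∙ y := by
      refine SetLike.not_le_iff_exists.1 fun hle => ?_
      have := Submodule.finrank_mono hle
      have h1 : finrank K (K ∙ y) ≤ 1 := by
        rcases eq_or_ne y 0 with h0 | h0
        · rw [h0, Submodule.span_zero_singleton, finrank_bot]; omega
        · rw [finrank_span_singleton h0]
      have := h4
      omega
    obtain ⟨e, heP, hee, hey⟩ : ∃ e ∈ P, h e e = 0 ∧ ∃ z ∈ P, h e z ≠ 0 := by
      obtain ⟨z, hz, hwz⟩ : ∃ z ∈ P, h w₀ z ≠ 0 := by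
        by_contra hc
        push Not at hc
        exact hw₀y (hrad w₀ hw₀P hc)
      obtain ⟨a, haP, haa⟩ := D.ch.exists_aniso P hw₀P hz hwz
      obtain ⟨e, he, he0, hee⟩ := Herm.exists_iso_ne_zero D.ch.ne_id D.ch.invol D.ch.symm
        (P ⊓ LinearMap.ker (h a)) (by
          have h3 := Submodule.finrank_sup_add_finrank_inf_eq P (LinearMap.ker (h a))
          have h4 := (h a).finrank_range_add_finrank_ker
          have h5 := Submodule.finrank_le (LinearMap.range (h a))
          have h6 := Submodule.finrank_le (P ⊔ LinearMap.ker (h a))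
          rw [finrank_self] at h5
          have := h4
          omega)
      obtain ⟨he1, he2⟩ := Submodule.mem_inf.1 he
      by_cases hr : ∀ z ∈ P, h e z = 0
      · -- then `e` spans the radical; add it to an isotropic vector of a smaller space
        obtain ⟨c, hc⟩ := Submodule.mem_span_singleton.1 (hrad e he1 hr)
        have hy0 : y ≠ 0 := fun h0 => he0 (by rw [← hc, h0, smul_zero])
        have hyy : h y y = 0 := by
          have := hee
          rw [← hc] at this
          simp only [LinearMap.map_smulₛₗ, LinearMap.smul_apply, RingHom.id_apply, map_smul, smul_eq_mul] at this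
          have hc0 : c ≠ 0 := fun h0 => he0 (by rw [← hc, h0, zero_smul])
          simpa [hc0] using this
        obtain ⟨y', hy', hyy'⟩ := D.ch.exists_partner hy0 hyy
        obtain ⟨e', he', he'0, hee'⟩ := Herm.exists_iso_ne_zero D.ch.ne_id D.ch.invol D.ch.symm
          (D.ch.perp2 y y') (by have := D.ch.finrank_perp2 y y'; have := h4; omega)
        refine ⟨e', (D.ch.mem_perp2.1 he').1, hee', ?_⟩
        by_contra hc'
        push Not at hc'
        obtain ⟨d, hd⟩ := Submodule.mem_span_singleton.1 (hrad e' (D.ch.mem_perp2.1 he').1 hc')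
        have := (D.ch.mem_perp2.1 he').2
        rw [← hd, map_smul, D.ch.swap_one hyy', smul_eq_mul, mul_one] at this
        exact he'0 (by rw [← hd, this, zero_smul])
      · push Not at hr
        exact ⟨e, he1, hee, hr⟩
    obtain ⟨z₁, hz₁, hez₁⟩ := hey
    have heS : e ∈ S := Submodule.subset_span ⟨hee, (hP e).1 heP⟩
    have key : ∀ w ∈ P, h e w ≠ 0 → w ∈ S := by
      intro w hw hew
      obtain ⟨s, hs⟩ := Herm.exists_trace_eq D.ch.ne_id D.ch.invol (a := -(h w w))
        (by rw [map_neg, D.ch.self_fixed])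
      set t := ρ (s / h e w) with ht
      have h1 : w + t • e ∈ S := by
        refine Submodule.subset_span ⟨?_, (hP _).1 (P.add_mem hw (P.smul_mem _ heP))⟩
        have hwe : h w e = ρ (h e w) := D.ch.flip_apply e w
        have hx0 : ρ (h e w) ≠ 0 := by simpa using hew
        simp only [map_add, LinearMap.add_apply, LinearMap.map_smulₛₗ, LinearMap.smul_apply, smul_eq_mul, hee,
          mul_zero, add_zero, hwe, D.invK, ht, map_smul]
        rw [map_div₀, div_mul_cancel₀ _ hew, div_mul_cancel₀ _ hx0]
        linear_combination hs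
      have h2 := S.sub_mem h1 (S.smul_mem t heS)
      rwa [add_sub_cancel_right] at h2
    have hqP : q ∈ P := (hP q).2 hq1
    by_cases hew : h e q = 0
    · have h2 := S.sub_mem (key (q + z₁) (P.add_mem hqP hz₁) (by rwa [map_add, hew, zero_add]))
        (key z₁ hz₁ hez₁)
      rwa [add_sub_cancel_right] at h2
    · exact key q hqP hew
  have h0 : pair h g u p ≠ 0 := fun e => hp1 (LinearMap.congr_fun e k)
  refine D.rankOne_of_pair hG.isom (fun v hv a ha => hG.roots D hv ha) hg huu hpp h0 fun e => ?_
  have hker : (1 : K) ∈ LinearMap.ker (pair h g u p) := by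
    rw [LinearMap.mem_ker, pair_apply, one_smul, hp0]
  rw [e, Submodule.mem_bot] at hker
  exact one_ne_zero hker

end Cfsg.Lib.Linear.UExt
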