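import Cfsg.Agent.Lib.Linear.UExt.Rank

/-!
# A pairing of rank one yields every transvection

Commutators of root elements give an Eichler element of the trace form, a torus scales it, and the difference is a
transvection at an isotropic vector of the extension.  Its orbit and one commutation give every centre.
-/

set_option autoImplicit false
set_option linter.unusedSectionVars false

namespace Cfsg.Lib.Linear.UExt

open Module
open Cfsg.Lib.Linear
open Cfsg.Lib.Linear.ExtField (InG)

variable {F K V : Type*} [Field F] [Finite F] [Field K] [Finite K] [Algebra F K] [FiniteDimensional F K]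
  [AddCommGroup V] [Module F V] [Module K V] [IsScalarTower F K V] [FiniteDimensional F V] [FiniteDimensional K V]
  {σ : F →+* F} {ρ : K →+* K} {B : V →ₛₗ[σ] V →ₗ[F] F} {h : V →ₛₗ[ρ] V →ₗ[K] K}
  {G : Subgroup (V ≃ₗ[F] V)} {g : V ≃ₗ[F] V} {u p : V} {τ : K →ₗ[F] F}

/-- All transvections at a vector lie in the group. -/
def Centre (B : V →ₛₗ[σ] V →ₗ[F] F) (G : Subgroup (V ≃ₗ[F] V)) (v : V) : Prop :=
  ∀ l : F, σ l = -l → InG G (tvm B l v)

theorem Over.centre_map (hG : Over B h G) {v : V} (hv : Centre B G v) {M : V ≃ₗ[F] V} (hM : M ∈ G) :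
    Centre B G (M v) := fun l hl => by
  refine InG.conj (hv l hl) hM fun x => ?_
  simp [hG.isom M hM, map_smul]

theorem Centre.smul (D : Data B h) {v : V} (hv : Centre B G v) (c : F) : Centre B G (c • v) := fun l hl => by
  refine (hv (l * σ c * c) ?_).congr fun x => ?_
  · rw [map_mul, map_mul, D.cB.invol, hl]; ring
  · simp only [tvm_apply, LinearMap.map_smulₛₗ, LinearMap.smul_apply, smul_eq_mul, smul_smul]
    congr 1
    ring

namespace RankOne

variable (R : RankOne h G g u p τ)
include R

/-- The pairing read through the inverse. -/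
theorem adj (D : Data B h) (hG : Over B h G) (k' k : K) :
    Algebra.trace F K (ρ k' * h u (g.symm (k • p))) = Algebra.trace F K k * σ (τ k') := by
  rw [← D.smul_left, ← hG.isom g R.mem, g.apply_symm_apply, D.smul_right, D.ch.flip_apply p (g (k' • u)), R.eq,
    D.compat, D.trace_mul_algebraMap]

/-- The Eichler element with its long root part. -/
theorem inG (D : Data B h) (hG : Over B h G) {t : K} (ht : ∀ k, h u (g.symm (k • p)) = algebraMap F K (Algebra.trace F K k) * t)
    {a : K} (ha : ρ a = -a) (hτ : τ (a * t) = 0) {b : K} (hb : ρ b = -b) :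
    InG G (eich B (g ((a * t) • u)) (b • p) + tvm B (Algebra.trace F K b) (g ((a * t) • u))) := by
  set e := g ((a * t) • u) with he
  let s : V →ₗ[F] V := (g : V →ₗ[F] V) ∘ₗ root h u a ∘ₗ (g.symm : V →ₗ[F] V)
  obtain ⟨A, hA, hAs⟩ : InG G s := InG.conj (hG.roots D R.iso_u ha) R.mem fun x => by simp [s]
  have hAp : ∀ k, A (k • p) = k • p + Algebra.trace F K k • e := fun k => by
    rw [hAs, add_right_inj]
    show g ((a * h u (g.symm (k • p))) • u) = _
    rw [ht, mul_left_comm, mul_smul, algebraMap_smul, map_smul]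
  have hAinv : ∀ x, h p (A.symm x) = h p x + algebraMap F K (B e x) := fun x => by
    refine D.ext_trace fun k => ?_
    rw [← D.smul_left, ← hG.isom A hA, A.apply_symm_apply, hAp, map_add, LinearMap.add_apply, D.smul_left,
      LinearMap.map_smulₛₗ, LinearMap.smul_apply, smul_eq_mul, mul_add, map_add, D.trace_mul_algebraMap, D.tr_conj]
  have h1 : InG G (eich B e (b • p) + tvm B (Algebra.trace F K b) e + root h p b) := by
    refine InG.conj (hG.roots D R.iso_p hb) hA fun x => ?_
    rw [root_apply, hAp]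
    have e1 : h p x = h p (A x) + algebraMap F K (B e (A x)) := by
      have := hAinv (A x)
      rwa [A.symm_apply_apply] at this
    have e2 : Algebra.trace F K (b * h p x) = -B (b • p) (A x) + B e (A x) * Algebra.trace F K b := by
      rw [e1, D.smul_left, hb, neg_mul, map_neg, mul_add, map_add, D.trace_mul_algebraMap]
      ring
    rw [e2, e1]
    simp only [LinearMap.add_apply, eich_apply, tvm_apply, root_apply]
    rw [← algebraMap_smul K (B e (A x)) (b • p), smul_smul]
    module
  have hb' : ρ (-b) = -(-b) := by rw [map_neg, hb]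
  refine (h1.add (hG.roots D R.iso_p hb') fun x => ?_).congr fun x => ?_
  · have e1 : ∀ k : K, B e (k • p) = 0 := fun k => by
      rw [D.smul_right, D.ch.flip_apply p e, he, R.eq, hτ, map_zero, map_zero, mul_zero, map_zero]
    have e2 : ∀ j k : K, B (j • p) (k • p) = 0 := fun j k => by
      rw [D.smul_left, map_smul, R.iso_p, smul_zero, mul_zero, map_zero]
    simp [e1, e2, R.iso_p]
  · rw [LinearMap.add_apply, LinearMap.add_apply (eich B e (b • p) + tvm B (Algebra.trace F K b) e), add_assoc,
      root_apply, root_apply, ← add_smul, ← add_mul, add_neg_cancel, zero_mul, zero_smul, add_zero]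

/-- An image of the kernel off the line gives a centre. -/
theorem centre_of (D : Data B h) (hG : Over B h G) {t : K}
    (ht : ∀ k, h u (g.symm (k • p)) = algebraMap F K (Algebra.trace F K k) * t)
    {a : K} (ha : ρ a = -a) (hτ : τ (a * t) = 0) (hne : g ((a * t) • u) ∉ K ∙ p) :
    Centre B G (g ((a * t) • u)) := by
  set e := g ((a * t) • u) with he
  intro l hl
  obtain ⟨c, hc, hc1⟩ := D.exists_real_trace_one
  obtain ⟨d, hd0, hd, hd1⟩ := D.exists_real_trace_zero
  obtain ⟨η₀, hη₀, hη⟩ := D.exists_anti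
  set b₀ := algebraMap F K η₀ * d with hb₀
  have hb₀' : ρ b₀ = -b₀ := by rw [hb₀, map_mul, D.compat, hη, map_neg, hd, neg_mul]
  have hb₀t : Algebra.trace F K b₀ = 0 := by rw [hb₀, mul_comm, D.trace_mul_algebraMap, hd1, zero_mul]
  have hb₀0 : b₀ ≠ 0 := mul_ne_zero (by simpa using hη₀) hd0
  have he0 : h p e = 0 := by rw [he, R.eq, hτ, map_zero]
  have hee : B e e = 0 := by
    rw [he, hG.isom g R.mem, D.smul_left, map_smul, R.iso_u, smul_zero, mul_zero, map_zero]
  have hp : p ∉ K ∙ e := by
    intro hm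
    obtain ⟨γ, hγ⟩ := Submodule.mem_span_singleton.1 hm
    rcases eq_or_ne γ 0 with h0 | h0
    · refine R.ne (LinearMap.ext fun k => (algebraMap F K).injective ?_)
      rw [← R.eq, ← hγ, h0, zero_smul, map_zero, LinearMap.zero_apply, LinearMap.zero_apply, map_zero]
    · exact hne (Submodule.mem_span_singleton.2 ⟨γ⁻¹, by rw [← hγ, smul_smul, inv_mul_cancel₀ h0, one_smul]⟩)
  have e1 : ∀ k : K, B e (k • p) = 0 := fun k => by
    rw [D.smul_right, D.ch.flip_apply p e, he0, map_zero, mul_zero, map_zero]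
  have e2 : ∀ j k : K, B (j • p) (k • p) = 0 := fun j k => by
    rw [D.smul_left, map_smul, R.iso_p, smul_zero, mul_zero, map_zero]
  have e3 : ∀ k : K, B (k • p) e = 0 := fun k => D.cB.swap_zero (e1 k)
  have hall : ∀ b : K, ρ b = -b → InG G (eich B e (b • p)) := by
    intro b hb
    rcases eq_or_ne b 0 with rfl | hb0
    · exact InG.zero.congr fun x => by simp
    have hk : ρ (b / b₀) = b / b₀ := by rw [map_div₀, hb, hb₀', neg_div_neg_eq]
    obtain ⟨M, hM, hMp, hMe⟩ := hG.exists_torus D hp R.iso_p he0 (div_ne_zero hb0 hb₀0) hk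
    have hsym : InG G (eich B e (b₀ • p)) := (R.inG D hG ht ha hτ hb₀').congr fun x => by
      rw [LinearMap.add_apply, tvm_apply, hb₀t, zero_mul, zero_smul, add_zero]
    refine InG.conj hsym hM fun x => ?_
    have hMb : M (b₀ • p) = b • p := by rw [hMp, mul_div_cancel₀ _ hb₀0]
    calc eich B e (b • p) (M x) = B (M e) (M x) • M (b₀ • p) - B (M (b₀ • p)) (M x) • M e := by
          rw [hMe, hMb, eich_apply]
      _ = M (eich B e (b₀ • p) x) := by
          rw [hG.isom M hM, hG.isom M hM, eich_apply, map_sub, LinearEquiv.map_smul M, LinearEquiv.map_smul M]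
  set b := algebraMap F K l * c with hb
  have hb' : ρ b = -b := by rw [hb, map_mul, D.compat, hl, map_neg, hc, neg_mul]
  have hbt : Algebra.trace F K b = l := by rw [hb, mul_comm, D.trace_mul_algebraMap, hc1, one_mul]
  have hnb : ρ (-b) = -(-b) := by rw [map_neg, hb']
  refine ((R.inG D hG ht ha hτ hb').add (hall (-b) hnb) fun x => ?_).congr fun x => ?_
  · simp [← he, e1, e2, e3, hee]
  · simp only [LinearMap.add_apply, eich_apply, tvm_apply, hbt, neg_smul, map_neg, LinearMap.neg_apply,
      smul_neg, ← he]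
    abel

/-- A pairing of rank one gives a centre on an isotropic line. -/
theorem exists_centre (D : Data B h) (h4 : 4 ≤ finrank K V) (hG : Over B h G) : ∃ v, v ≠ 0 ∧ h v v = 0 ∧ Centre B G v := by
  obtain ⟨k₀, hk₀⟩ := Algebra.trace_surjective F K 1
  set t := h u (g.symm (k₀ • p)) with htd
  have ht : ∀ k, h u (g.symm (k • p)) = algebraMap F K (Algebra.trace F K k) * t := fun k => by
    refine D.ext_trace fun k' => ?_
    rw [R.adj D hG, show ρ k' * (algebraMap F K (Algebra.trace F K k) * t) =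
      (ρ k' * t) * algebraMap F K (Algebra.trace F K k) by ring, D.trace_mul_algebraMap, htd, R.adj D hG, hk₀]
    ring
  have hτt : ∀ x, Algebra.trace F K (x * ρ t) = τ x := fun x => by
    have := congrArg σ (R.adj D hG x k₀)
    rw [hk₀, one_mul, D.cB.invol, ← D.tr_conj, map_mul, D.invK, ← htd] at this
    exact this
  have ht0 : t ≠ 0 := fun e0 => R.ne (LinearMap.ext fun x => by
    rw [← hτt, e0, map_zero, mul_zero, map_zero, LinearMap.zero_apply])
  have hρt : ρ t ≠ 0 := by simpa using ht0
  have hu : u ≠ 0 := fun e => R.ne (LinearMap.ext fun k => (algebraMap F K).injective (by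
    rw [← R.eq, e, smul_zero, map_zero, map_zero, LinearMap.zero_apply, map_zero]))
  obtain ⟨η₀, hη₀, hη⟩ := D.exists_anti
  -- the parameters of the real elements of trace zero
  let a : K → K := fun d => algebraMap F K η₀ * d / (t * ρ t)
  have ha : ∀ d, ρ d = d → ρ (a d) = -a d := fun d hd => by
    simp only [a, map_div₀, map_mul, D.compat, hη, map_neg, hd, D.invK]
    rw [mul_comm (ρ t) t, neg_mul, neg_div]
  have hat : ∀ d, a d * t = algebraMap F K η₀ * (d / ρ t) := fun d => by
    simp only [a]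
    field_simp
  have hτa : ∀ d, Algebra.trace F K d = 0 → τ (a d * t) = 0 := fun d hd => by
    rw [← hτt, hat, mul_assoc, div_mul_cancel₀ _ hρt, mul_comm, D.trace_mul_algebraMap, hd, zero_mul]
  have found : ∀ d, d ≠ 0 → ρ d = d → Algebra.trace F K d = 0 → Centre B G (g ((a d * t) • u)) →
      ∃ v, v ≠ 0 ∧ h v v = 0 ∧ Centre B G v := by
    intro d hd0 _ _ hc
    refine ⟨(a d * t) • u, ?_, ?_, ?_⟩
    · refine smul_ne_zero ?_ hu
      rw [hat]
      exact mul_ne_zero (by simpa using hη₀) (div_ne_zero hd0 hρt)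
    · simp [R.iso_u]
    · have := hG.centre_map hc (G.inv_mem R.mem)
      rwa [show g⁻¹ (g ((a d * t) • u)) = (a d * t) • u from g.symm_apply_apply _] at this
  by_cases hex : ∃ d, ρ d = d ∧ Algebra.trace F K d = 0 ∧ g ((a d * t) • u) ∉ K ∙ p
  · obtain ⟨d, hd, hd1, hne⟩ := hex
    refine found d (fun e0 => hne ?_) hd hd1 (R.centre_of D hG ht (ha d hd) (hτa d hd1) hne)
    simp [a, e0]
  push Not at hex
  -- then the kernel maps into the line of `p`; shift `p` orthogonally to the image
  let Φ : K →ₗ[F] V := (g : V →ₗ[F] V) ∘ₗ (LinearMap.toSpanSingleton K V u).restrictScalars F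
  let N : Submodule F K := ((K ∙ p).restrictScalars F).comap Φ
  have hker : ∀ x, τ x = 0 → g (x • u) ∈ K ∙ p := by
    intro x hx
    have h1 : Algebra.trace F K (x * ρ t) = 0 := by rw [hτt, hx]
    have h2 : x * ρ t ∈ N.comap (LinearMap.mulRight F (ρ t)⁻¹) := by
      refine (Submodule.span_le.2 ?_) (D.mem_real_span_zero h1)
      rintro d ⟨hd, hd1⟩
      show d * (ρ t)⁻¹ ∈ N
      have h3 : a d * t ∈ N := hex d hd hd1
      have h4 := N.smul_mem η₀⁻¹ h3
      rwa [hat, Algebra.smul_def, ← mul_assoc, ← map_mul, inv_mul_cancel₀ hη₀, map_one, one_mul,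
        div_eq_mul_inv] at h4
    have h3 : x * ρ t * (ρ t)⁻¹ ∈ N := h2
    rwa [mul_inv_cancel_right₀ hρt] at h3
  obtain ⟨k₁, hk₁⟩ : ∃ k₁, τ k₁ = 1 := LinearMap.surjective R.ne 1
  set Y := g (k₁ • u) with hY
  have hpY : h p Y = 1 := by rw [hY, R.eq, hk₁, map_one]
  obtain ⟨z, hz, hz0, hzz⟩ := Herm.exists_iso_ne_zero D.ch.ne_id D.ch.invol D.ch.symm (D.ch.perp2 p Y)
    (by have := D.ch.finrank_perp2 p Y; have := h4; omega)
  obtain ⟨hzp', hzY'⟩ := D.ch.mem_perp2.1 hz
  have hzp : h z p = 0 := D.ch.swap_zero hzp'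
  have hzY : h z Y = 0 := D.ch.swap_zero hzY'
  have R' : RankOne h G g u (p + z) τ := by
    refine ⟨R.mem, R.iso_u, ?_, R.ne, fun k => ?_⟩
    · simp [R.iso_p, hzz, hzp, hzp']
    · have hd : g (k • u) = g ((k - τ k • k₁) • u) + τ k • Y := by
        rw [hY, ← map_smul g, ← smul_assoc, ← map_add, ← add_smul, sub_add_cancel]
      obtain ⟨γ, hγ⟩ := Submodule.mem_span_singleton.1 (hker (k - τ k • k₁) (by simp [hk₁]))
      rw [map_add, LinearMap.add_apply, R.eq, hd, ← hγ, map_add, map_smul, hzp, smul_zero, zero_add,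
        ← algebraMap_smul K (τ k) Y, map_smul, hzY, smul_zero, add_zero]
  have ht' : ∀ k, h u (g.symm (k • (p + z))) = algebraMap F K (Algebra.trace F K k) * t := fun k => by
    refine D.ext_trace fun k' => ?_
    rw [R'.adj D hG, ← R.adj D hG k' k, ht]
  obtain ⟨d, hd0, hd, hd1⟩ := D.exists_real_trace_zero
  refine found d hd0 hd hd1 (R'.centre_of D hG ht' (ha d hd) (hτa d hd1) fun hm => ?_)
  obtain ⟨γ, hγ⟩ := Submodule.mem_span_singleton.1 (hex d hd hd1)
  obtain ⟨δ, hδ⟩ := Submodule.mem_span_singleton.1 hm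
  have hne : g ((a d * t) • u) ≠ 0 := by
    rw [Ne, LinearEquiv.map_eq_zero_iff]
    refine smul_ne_zero ?_ hu
    rw [hat]
    exact mul_ne_zero (by simpa using hη₀) (div_ne_zero hd0 hρt)
  -- pairing with `Y` and `p` separates `z`
  have h1 : h Y (δ • (p + z)) = h Y (γ • p) := by rw [hδ, hγ]
  rw [map_smul, map_smul, map_add, D.ch.swap_one hpY, D.ch.swap_zero hzY, add_zero, smul_eq_mul, smul_eq_mul,
    mul_one, mul_one] at h1
  subst h1
  rw [smul_add, ← hγ, add_eq_left, smul_eq_zero] at hδ
  rcases hδ with h2 | h2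
  · exact hne (by rw [← hγ, h2, zero_smul])
  · exact hz0 h2

end RankOne

/-- Centres everywhere give all transvections. -/
theorem tv_le_of_centres (hall : ∀ v, B v v = 0 → Centre B G v) : Herm.tvGroup B ≤ G := by
  rw [Herm.tvGroup, Subgroup.closure_le]
  rintro _ ⟨w, l, hl, hw, rfl⟩
  have hl' : σ l = -l := by rw [hw, mul_zero, add_zero] at hl; linear_combination hl
  obtain ⟨t, ht, hta⟩ := hall w hw l hl'
  have : t = Herm.qrefl w l hl := LinearEquiv.ext fun x => by rw [hta, Herm.qrefl_apply, tvm_apply]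
  exact this ▸ ht

namespace Over

variable (hG : Over B h G)
include hG

/-- One centre moved by the transvections at another. -/
theorem centre_comm (D : Data B h) {e f : V} (he : Centre B G e) (hf : Centre B G f)
    {l : F} (hl : σ l = -l) : Centre B G (f + (l * B e f) • e) := by
  obtain ⟨M, hM, hMa⟩ := he l hl
  have := hG.centre_map hf hM
  rwa [hMa, tvm_apply] at this

/-- Every isotropic vector of the trace form is a centre. -/
theorem centre_all (D : Data B h) (h4 : 4 ≤ finrank K V) (v : V) (hv : B v v = 0) : Centre B G v := by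
  obtain ⟨g, u, p, τ, R⟩ := hG.exists_rankOne D h4
  obtain ⟨w, hw0, hww, hw⟩ := R.exists_centre D h4 hG
  have hiso : ∀ x, h x x = 0 → Centre B G x := fun x hx => by
    rcases eq_or_ne x 0 with rfl | hx0
    · intro l _
      exact InG.zero.congr fun z => by simp
    obtain ⟨M, hM, hMw⟩ := hG.move_iso D (by omega) hw0 hx0 hww hx
    exact hMw ▸ hG.centre_map hw hM
  by_cases hν : h v v = 0
  · exact hiso v hν
  set ν := h v v with hνd
  have hνr : ρ ν = ν := D.ch.self_fixed v
  have hνt : Algebra.trace F K ν = 0 := by rw [hνd, ← D.tr, hv]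
  obtain ⟨e, -, he0, hee⟩ := Herm.exists_iso_ne_zero D.ch.ne_id D.ch.invol D.ch.symm ⊤
    (by rw [finrank_top]; have := h4; omega)
  obtain ⟨e', he', hee'⟩ := D.ch.exists_partner he0 hee
  obtain ⟨η₀, hη₀, hη⟩ := D.exists_anti
  set η := algebraMap F K η₀ with hηd
  have hη' : ρ η = -η := by rw [hηd, D.compat, hη, map_neg]
  have hη0 : η ≠ 0 := by simpa [hηd] using hη₀
  set w₁ := -ν / η with hw₁
  have hw₁' : ρ w₁ = -w₁ := by rw [hw₁, map_div₀, map_neg, hνr, hη', div_neg]
  have hw₁t : Algebra.trace F K w₁ = 0 := by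
    rw [hw₁, hηd, div_eq_mul_inv, ← map_inv₀, D.trace_mul_algebraMap, map_neg, hνt, neg_zero, zero_mul]
  obtain ⟨s, hs⟩ := Herm.exists_trace_eq D.ch.ne_id D.ch.invol (a := (1 : K)) (map_one ρ)
  obtain ⟨c, hc, hc1⟩ := D.exists_real_trace_one
  set z₀ := s * w₁ with hz₀
  have hz₀' : z₀ - ρ z₀ = w₁ := by rw [hz₀, map_mul, hw₁']; linear_combination w₁ * hs
  set T₀ := Algebra.trace F K z₀ with hT₀
  have hT₀' : σ T₀ = T₀ := by
    have := congrArg (Algebra.trace F K) hz₀'
    rw [map_sub, D.tr_conj, hw₁t, sub_eq_zero] at this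
    exact this.symm
  set z := z₀ + algebraMap F K (1 - T₀) * c with hz
  have hzT : Algebra.trace F K z = 1 := by
    rw [hz, map_add, mul_comm, D.trace_mul_algebraMap, hc1, ← hT₀]; ring
  have hzw : z - ρ z = w₁ := by
    rw [hz, map_add ρ z₀, map_mul ρ (algebraMap F K (1 - T₀)), D.compat, hc, map_sub σ, map_one, hT₀', ← hz₀']
    ring
  have hB : B e (z • e') = 1 := by rw [D.smul_right, hee', mul_one, hzT]
  have hctr : Centre B G (z • e' + (η₀ * B e (z • e')) • e) :=
    hG.centre_comm D (hiso e hee) (hiso (z • e') (by simp [he'])) hη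
  rw [hB, mul_one, ← algebraMap_smul K η₀ e] at hctr
  set v' := z • e' + η • e with hv'
  have hv'' : h v' v' = ν := by
    simp only [hv', map_add, LinearMap.map_smulₛₗ, LinearMap.add_apply, LinearMap.smul_apply, map_smul, he', hee,
      hee', D.ch.swap_one hee', smul_eq_mul, hη', RingHom.id_apply]
    have : ν = -(η * w₁) := by rw [hw₁]; field_simp
    linear_combination (-η) * hzw - this
  obtain ⟨M, hM, hMv⟩ := hG.move_aniso D (x := v') (y := v) (by rw [hv'']; exact hν) (by rw [hv''])
  exact hMv ▸ hG.centre_map hctr hM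

/-- The transvection group is contained. -/
theorem tv_le (D : Data B h) (h4 : 4 ≤ finrank K V) : Herm.tvGroup B ≤ G :=
  tv_le_of_centres (hG.centre_all D h4)

end Over

end Cfsg.Lib.Linear.UExt
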