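import Mathlib

/-!
# The ring generated by the products `k * f (ρ k)` in a field of degree five

`f` has order five and `ρ` is an involution commuting with it.  An additive group of pairs invariant under
multiplication by the pairs `(k * f (ρ k), k * f (f (ρ k)))`, `k` of norm fixed by `ρ`, and containing a pair
with both entries non-zero is everything.
-/

set_option autoImplicit false
set_option linter.unusedSectionVars false

namespace Cfsg.Lib.Linear.UExt

open Module

variable {F K : Type*} [Field F] [Finite F] [Field K] [Finite K] [Algebra F K]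

/-- An automorphism of order five fixing exactly the ground field, with a commuting involution. -/
structure Quint (σ : F →+* F) (ρ : K →+* K) (f : K →ₐ[F] K) : Prop where
  five : ∀ x, f (f (f (f (f x)))) = x
  fixed : ∀ x, f x = x → ∃ a : F, x = algebraMap F K a
  comm : ∀ x, ρ (f x) = f (ρ x)
  invol : ∀ x, ρ (ρ x) = x
  compat : ∀ a, ρ (algebraMap F K a) = algebraMap F K (σ a)
  ne : σ ≠ RingHom.id F
  five' : finrank F K = 5
  norm_eq : ∀ x, algebraMap F K (Algebra.norm F x) = x * f x * f (f x) * f (f (f x)) * f (f (f (f x)))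

namespace Quint

variable {σ : F →+* F} {ρ : K →+* K} {f : K →ₐ[F] K} (Q : Quint σ ρ f)
include Q

theorem sq : Quint σ ρ (f.comp f) where
  five x := by simp only [AlgHom.comp_apply, Q.five]
  fixed x hx := by
    simp only [AlgHom.comp_apply] at hx
    refine Q.fixed x ?_
    conv_rhs => rw [← Q.five x]
    rw [hx, hx]
  comm x := by simp only [AlgHom.comp_apply, Q.comm]
  invol := Q.invol
  compat := Q.compat
  ne := Q.ne
  five' := Q.five'
  norm_eq x := by
    rw [Q.norm_eq]
    simp only [AlgHom.comp_apply, Q.five]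
    ring

theorem f_inj : Function.Injective f := fun a b h => by rw [← Q.five a, ← Q.five b, h]

theorem exists_nonreal : ∃ η : F, η ≠ 0 ∧ σ η ≠ η := by
  by_contra hc
  push Not at hc
  refine Q.ne (RingHom.ext fun a => ?_)
  rcases eq_or_ne a 0 with rfl | ha
  · simp
  · exact hc a ha

/-- A non-fixed element splits the field over the fixed elements. -/
theorem decomp {θ : K} (hθ : ρ θ ≠ θ) (z : K) : ∃ a b, ρ a = a ∧ ρ b = b ∧ z = a + b * θ := by
  have h0 : θ - ρ θ ≠ 0 := sub_ne_zero.2 (Ne.symm hθ)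
  have hb : ρ ((z - ρ z) / (θ - ρ θ)) = (z - ρ z) / (θ - ρ θ) := by
    rw [map_div₀, map_sub, map_sub, Q.invol, Q.invol, ← neg_sub, ← neg_sub θ (ρ θ), neg_div_neg_eq]
  refine ⟨z - (z - ρ z) / (θ - ρ θ) * θ, _, ?_, hb, by ring⟩
  rw [map_sub, map_mul, hb]
  field_simp
  ring

theorem exists_real_not_fixed : ∃ x, ρ x = x ∧ f x ≠ x := by
  by_contra hc
  push Not at hc
  obtain ⟨η, -, hη⟩ := Q.exists_nonreal
  have hη' : ρ (algebraMap F K η) ≠ algebraMap F K η := by
    rw [Q.compat]
    exact fun h => hη ((algebraMap F K).injective h)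
  have hall : ∀ z : K, ∃ a : F, z = algebraMap F K a := fun z => by
    obtain ⟨a, b, ha, hb, rfl⟩ := Q.decomp hη' z
    refine Q.fixed _ ?_
    rw [map_add, map_mul, AlgHom.commutes, hc a ha, hc b hb]
  have : (⊤ : Subalgebra F K) = ⊥ := eq_bot_iff.2 fun z _ => Algebra.mem_bot.2
    ((hall z).imp fun a h => h.symm)
  have h1 := congrArg (fun S : Subalgebra F K => finrank F S) this
  simp only [Subalgebra.finrank_bot] at h1
  rw [← (Subalgebra.topEquiv (R := F) (A := K)).toLinearEquiv.finrank_eq.symm, Q.five'] at h1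
  omega

/-- A ring with all the products of a fixed element and its image has all the fixed elements. -/
theorem real_mem {R : Subring K} (hR : ∀ x, ρ x = x → x * f x ∈ R) {x : K} (hx : ρ x = x) : x ∈ R := by
  have him : ∀ y, ρ y = y → y + f y ∈ R := fun y hy => by
    have h := R.sub_mem (R.sub_mem (hR (1 + y) (by rw [map_add, map_one, hy])) R.one_mem) (hR y hy)
    convert h using 1
    rw [map_add, map_one]
    ring
  have hf : ∀ {y}, ρ y = y → ρ (f y) = f y := fun {y} hy => by rw [Q.comm, hy]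
  set T := x + f x + f (f x) + f (f (f x)) + f (f (f (f x))) with hT
  have hTf : f T = T := by simp only [hT, map_add, Q.five]; ring
  have hTr : ρ T = T := by simp only [hT, map_add, hx, hf hx, hf (hf hx), hf (hf (hf hx)), hf (hf (hf (hf hx)))]
  have hTR : T ∈ R := by
    by_cases h2 : (2 : K) = 0
    · have : CharP K 2 := CharTwo.of_one_ne_zero_of_two_eq_zero one_ne_zero h2
      have := Fact.mk Nat.prime_two
      have hinj : Function.Injective fun y : K => y ^ 2 := fun a b h => by
        have h' : (a - b) ^ 2 = 0 := by linear_combination h + (b ^ 2 - a * b) * h2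
        exact sub_eq_zero.1 (pow_eq_zero_iff two_ne_zero |>.1 h')
      obtain ⟨y, hy⟩ := Finite.surjective_of_injective hinj T
      simp only at hy
      have hy1 : f y = y := hinj (by show f y ^ 2 = y ^ 2; rw [← map_pow, hy, hTf])
      have hy2 : ρ y = y := hinj (by show ρ y ^ 2 = y ^ 2; rw [← map_pow, hy, hTr])
      have := hR y hy2
      rwa [hy1, ← pow_two, hy] at this
    · have := him (T / 2) (by rw [map_div₀, hTr, map_ofNat])
      rwa [map_div₀, hTf, map_ofNat, ← two_mul, mul_div_cancel₀ _ h2] at this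
  have h := R.sub_mem (R.sub_mem hTR (him (f x) (hf hx))) (him (f (f (f x))) (hf (hf (hf hx))))
  convert h using 1
  simp only [hT]
  ring

/-- A ring of pairs with the two kinds of products does not lie on a graph. -/
theorem exists_sep {R : Subring (K × K)} (hR : ∀ x, ρ x = x → (x * f x, x * f (f x)) ∈ R) :
    ∃ b ≠ 0, ((0 : K), b) ∈ R := by
  by_contra hc
  push Not at hc
  have huniq : ∀ {a b b' : K}, (a, b) ∈ R → (a, b') ∈ R → b = b' := fun {a b b'} h h' => by
    by_contra hne
    refine hc _ (sub_ne_zero.2 hne) ?_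
    have := R.sub_mem h h'
    simpa using this
  have hex : ∀ x, ρ x = x → ∃ y, (x, y) ∈ R := fun x hx => by
    obtain ⟨⟨a, y⟩, ha, rfl⟩ := Q.real_mem (R := R.map (RingHom.fst K K)) (fun z hz => ⟨_, hR z hz, rfl⟩) hx
    exact ⟨y, ha⟩
  have hsum : ∀ x, ρ x = x → (x + f x, x + f (f x)) ∈ R := fun y hy => by
    have h := R.sub_mem (R.sub_mem (hR (1 + y) (by rw [map_add, map_one, hy])) R.one_mem) (hR y hy)
    convert h using 1
    ext <;> simp only [Prod.fst_sub, Prod.snd_sub, Prod.fst_one, Prod.snd_one, map_add, map_one] <;> ring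
  have hkey : ∀ x, ρ x = x → (x, x) ∈ R ∨ (x, f (f x)) ∈ R := fun x hx => by
    obtain ⟨y, hy⟩ := hex x hx
    obtain ⟨z, hz⟩ := hex (f x) (by rw [Q.comm, hx])
    have h1 : y + z = x + f (f x) := huniq (R.add_mem hy hz) (hsum x hx)
    have h2 : y * z = x * f (f x) := huniq (R.mul_mem hy hz) (hR x hx)
    have h3 : (y - x) * (y - f (f x)) = 0 := by linear_combination y * h1 - h2
    rcases mul_eq_zero.1 h3 with h | h
    · exact Or.inl (sub_eq_zero.1 h ▸ hy)
    · exact Or.inr (sub_eq_zero.1 h ▸ hy)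
  let A : AddSubgroup K :=
    { carrier := {x | ρ x = x ∧ (x, x) ∈ R}
      add_mem' := fun {a b} ha hb => ⟨by rw [map_add, ha.1, hb.1], R.add_mem ha.2 hb.2⟩
      zero_mem' := ⟨map_zero ρ, R.zero_mem⟩
      neg_mem' := fun {a} ha => ⟨by rw [map_neg, ha.1], R.neg_mem ha.2⟩ }
  obtain ⟨x₁, hx₁, hx₁f⟩ := Q.exists_real_not_fixed
  have hx₁0 : x₁ ≠ 0 := fun h => hx₁f (by rw [h, map_zero])
  by_cases hA : ∀ x, ρ x = x → (x, x) ∈ R
  · have h1 := huniq (hA (x₁ + f x₁) (by rw [map_add, Q.comm, hx₁])) (hsum x₁ hx₁)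
    have h2 : f (f x₁) = f x₁ := (add_left_cancel h1).symm
    exact hx₁f (Q.f_inj h2)
  push Not at hA
  obtain ⟨a, ha, haR⟩ := hA
  have haA := (hkey a ha).resolve_left haR
  have hall : ∀ x, ρ x = x → (x, f (f x)) ∈ R := fun x hx => by
    rcases hkey x hx with h | h
    · rcases hkey (x + a) (by rw [map_add, hx, ha]) with h' | h'
      · refine absurd ?_ haR
        have := R.sub_mem h' h
        simpa using this
      · have := R.sub_mem h' haA
        simpa [map_add] using this
    · exact h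
  have h1 := huniq (hall (x₁ * f x₁) (by rw [map_mul, Q.comm, hx₁])) (hR x₁ hx₁)
  simp only [map_mul] at h1
  have hne2 : f (f x₁) ≠ 0 := fun h => hx₁0 (Q.f_inj (Q.f_inj (by simpa using h)))
  have h2 : f (f (f x₁)) = x₁ := mul_left_cancel₀ hne2 (by linear_combination h1)
  have h3 : f (f (f (f (f (f x₁))))) = x₁ := by rw [h2, h2]
  rw [Q.five] at h3
  exact hx₁f h3

theorem norm_map (x : K) : Algebra.norm F (f x) = Algebra.norm F x := by
  refine (algebraMap F K).injective ?_
  rw [Q.norm_eq, Q.norm_eq, Q.five]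
  ring

theorem fixed_of_sq {x : K} (h : f (f x) = x) : f x = x := by
  have h5 := Q.five x
  rwa [h, h] at h5

/-- An element of admissible norm whose products are not fixed. -/
theorem exists_torus : ∃ k : K, k ≠ 0 ∧ Algebra.norm F (k / ρ k) = 1 ∧
    ρ (k * f (ρ k)) ≠ k * f (ρ k) ∧ ρ (k * f (f (ρ k))) ≠ k * f (f (ρ k)) := by
  classical
  have := Fintype.ofFinite F
  have := Fintype.ofFinite K
  by_cases hex : ∃ w : K, w ≠ 0 ∧ f (f ((w / ρ w) / f (w / ρ w))) ≠ (w / ρ w) / f (w / ρ w) ∧
      f ((w / ρ w) / f (w / ρ w)) ≠ (w / ρ w) / f (w / ρ w)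
  · obtain ⟨w, hw, h2, h1⟩ := hex
    have hρw : ρ w ≠ 0 := by simpa using hw
    have hfw : f w ≠ 0 := fun h => hw (Q.f_inj (by rw [h, map_zero]))
    have hfρw : f (ρ w) ≠ 0 := fun h => hρw (Q.f_inj (by rw [h, map_zero]))
    set k := w / f w with hk
    have hk0 : k ≠ 0 := div_ne_zero hw hfw
    have hρk : ρ k ≠ 0 := by simpa using hk0
    have hkk : k / ρ k = (w / ρ w) / f (w / ρ w) := by
      simp only [hk, map_div₀, Q.comm]
      field_simp
    have key : ∀ g : K →ₐ[F] K, (∀ x, ρ (g x) = g (ρ x)) → Function.Injective g →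
        g (k / ρ k) ≠ k / ρ k → ρ (k * g (ρ k)) ≠ k * g (ρ k) := by
      intro g hg hgi hne h
      rw [map_mul, hg, Q.invol] at h
      refine hne ?_
      have h0 : g (ρ k) ≠ 0 := fun e => hρk (hgi (by rw [e, map_zero]))
      rw [map_div₀, div_eq_div_iff h0 hρk]
      linear_combination h
    refine ⟨k, hk0, ?_, key f Q.comm Q.f_inj (hkk ▸ h1), key (f.comp f) Q.sq.comm Q.sq.f_inj (hkk ▸ h2)⟩
    have hn : Algebra.norm F (w / ρ w) ≠ 0 := by
      rw [Ne, Algebra.norm_eq_zero_iff]
      exact div_ne_zero hw hρw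
    refine mul_right_cancel₀ hn ?_
    conv_lhs => rw [← Q.norm_map (w / ρ w), ← map_mul, hkk,
      div_mul_cancel₀ _ (fun h => div_ne_zero hw hρw (Q.f_inj (by rw [h, map_zero])))]
    rw [one_mul]
  exfalso
  push Not at hex
  have hfix : ∀ w : K, w ≠ 0 → ∃ c : F, (w / ρ w) ^ 5 = algebraMap F K c := fun w hw => by
    set x := w / ρ w with hx
    set y := x / f x with hy
    have hy1 : f y = y := by
      by_cases h : f (f y) = y
      · exact Q.fixed_of_sq h
      · exact hex w hw h
    have hx0 : x ≠ 0 := div_ne_zero hw (by simpa using hw)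
    have hfx0 : f x ≠ 0 := fun h => hx0 (Q.f_inj (by rw [h, map_zero]))
    have hy0 : y ≠ 0 := div_ne_zero hx0 hfx0
    have hstep : f x = x / y := by rw [hy]; field_simp
    have h5 : x = x / y ^ 5 := by
      conv_lhs => rw [← Q.five x]
      simp only [hstep, map_div₀, hy1]
      field_simp
    have hy5 : y ^ 5 = 1 := by
      have := h5.symm
      rwa [div_eq_iff (pow_ne_zero 5 hy0), left_eq_mul₀ hx0] at this
    refine Q.fixed _ ?_
    rw [map_pow, hstep, div_pow, hy5, div_one]
  obtain ⟨η, -, hη⟩ := Q.exists_nonreal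
  set e := algebraMap F K η with he
  have he' : ρ e ≠ e := by
    rw [he, Q.compat]
    exact fun h => hη ((algebraMap F K).injective h)
  set S : Finset K := Finset.univ.filter fun s => ρ s = s with hS
  have hmem : ∀ s ∈ S, ρ s = s := fun s hs => (Finset.mem_filter.1 hs).2
  have hnz : ∀ s ∈ S, s + e ≠ 0 := fun s hs h => he' (by
    rw [eq_neg_of_add_eq_zero_right h, map_neg, hmem s hs])
  have hK : Fintype.card K ≤ S.card * S.card := by
    rw [← Finset.card_product]
    refine Finset.card_le_card_of_surjOn (fun ab => ab.1 + ab.2 * e) fun z _ => ?_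
    obtain ⟨a, b, ha, hb, rfl⟩ := Q.decomp he' z
    exact ⟨(a, b), by simp [hS, ha, hb], rfl⟩
  have hinj : Set.InjOn (fun s => (s + e) / ρ (s + e)) S := by
    intro s hs t ht h
    have h1 : ρ (s + e) ≠ 0 := (map_ne_zero ρ).2 (hnz s hs)
    have h2 : ρ (t + e) ≠ 0 := (map_ne_zero ρ).2 (hnz t ht)
    simp only [map_add, hmem s hs, hmem t ht] at h h1 h2
    rw [div_eq_div_iff h1 h2] at h
    have h3 : (s - t) * (ρ e - e) = 0 := by linear_combination h
    exact sub_eq_zero.1 ((mul_eq_zero.1 h3).resolve_right (sub_ne_zero.2 he'))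
  have hS5 : S.card ≤ 5 * Fintype.card F := by
    refine (Finset.card_le_card_of_injOn _ (t := Finset.univ.biUnion fun c : F =>
      (Polynomial.nthRoots 5 (algebraMap F K c)).toFinset) (fun s hs => ?_) hinj).trans ?_
    · obtain ⟨c, hc⟩ := hfix (s + e) (hnz s hs)
      exact Finset.mem_biUnion.2 ⟨c, Finset.mem_univ c,
        Multiset.mem_toFinset.2 ((Polynomial.mem_nthRoots (by norm_num)).2 hc)⟩
    · refine (Finset.card_biUnion_le).trans ((Finset.sum_le_card_nsmul _ _ 5 fun c _ => ?_).trans ?_)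
      · exact (Multiset.toFinset_card_le _).trans (Polynomial.card_nthRoots 5 _)
      · simp [mul_comm]
  have hF : 3 ≤ Fintype.card F := by
    by_contra hlt
    obtain ⟨η', h0, hη'⟩ := Q.exists_nonreal
    have h2 : ∀ a : F, a = 0 ∨ a = 1 := fun a => by
      by_contra hc
      push Not at hc
      exact hlt (Finset.card_eq_three.2 ⟨0, 1, a, zero_ne_one, Ne.symm hc.1, Ne.symm hc.2, rfl⟩ |>.symm.le.trans
        (Finset.card_le_univ _))
    exact hη' (by rw [(h2 η').resolve_left h0, map_one])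
  rw [Module.card_eq_pow_finrank (K := F) (V := K), Q.five'] at hK
  set c := Fintype.card F
  have h25 : c ^ 5 ≤ 5 * c * (5 * c) := hK.trans (Nat.mul_le_mul hS5 hS5)
  nlinarith [Nat.mul_le_mul (Nat.mul_le_mul hF hF) hF, Nat.mul_le_mul (le_refl (c * c)) (show 27 ≤ c * c * c from
    le_trans (by norm_num) (Nat.mul_le_mul (Nat.mul_le_mul hF hF) hF)), Nat.mul_le_mul hF hF]

/-- An invariant group of pairs is everything. -/
theorem all_pairs (N : AddSubgroup (K × K))
    (hN : ∀ k : K, k ≠ 0 → Algebra.norm F (k / ρ k) = 1 → ∀ c ∈ N,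
      (k * f (ρ k), k * f (f (ρ k))) * c ∈ N)
    {c₁ c₂ : K} (h1 : c₁ ≠ 0) (h2 : c₂ ≠ 0) (hc : (c₁, c₂) ∈ N) : N = ⊤ := by
  let R : Subring (K × K) :=
    { carrier := {r | ∀ c ∈ N, r * c ∈ N}
      mul_mem' := fun {a b} ha hb c hc => by rw [mul_assoc]; exact ha _ (hb c hc)
      one_mem' := fun c hc => by rwa [one_mul]
      add_mem' := fun {a b} ha hb c hc => by rw [add_mul]; exact N.add_mem (ha c hc) (hb c hc)
      zero_mem' := fun c _ => by rw [zero_mul]; exact N.zero_mem
      neg_mem' := fun {a} ha c hc => by rw [neg_mul]; exact N.neg_mem (ha c hc) }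
  have hreal : ∀ x, ρ x = x → (x * f x, x * f (f x)) ∈ R := fun x hx => by
    rcases eq_or_ne x 0 with rfl | hx0
    · rw [zero_mul, zero_mul]; exact R.zero_mem
    · have := hN x hx0 (by rw [hx, div_self hx0, map_one])
      rwa [hx] at this
  obtain ⟨b, hb0, hb⟩ := Q.exists_sep hreal
  have := Fintype.ofFinite K
  have h01 : ((0 : K), (1 : K)) ∈ R := by
    have h := R.pow_mem hb (Fintype.card K - 1)
    have hne : Fintype.card K - 1 ≠ 0 := by have := Fintype.one_lt_card (α := K); omega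
    simpa [Prod.pow_def, FiniteField.pow_card_sub_one_eq_one b hb0, zero_pow hne] using h
  have h10 : ((1 : K), (0 : K)) ∈ R := by
    have h := R.sub_mem R.one_mem h01
    simpa [Prod.one_eq_mk] using h
  obtain ⟨k, hk0, hk, hk1, hk2⟩ := Q.exists_torus
  have hkR : (k * f (ρ k), k * f (f (ρ k))) ∈ R := hN k hk0 hk
  have hfst : ∀ z : K, z ∈ R.map (RingHom.fst K K) := fun z => by
    obtain ⟨a, b, ha, hb, rfl⟩ := Q.decomp hk1 z
    exact add_mem (Q.real_mem (R := R.map (RingHom.fst K K)) (fun y hy => Subring.mem_map.2 ⟨_, hreal y hy, rfl⟩) ha)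
      (mul_mem (Q.real_mem (R := R.map (RingHom.fst K K)) (fun y hy => Subring.mem_map.2 ⟨_, hreal y hy, rfl⟩) hb) ⟨_, hkR, rfl⟩)
  have hsnd : ∀ z : K, z ∈ R.map (RingHom.snd K K) := fun z => by
    obtain ⟨a, b, ha, hb, rfl⟩ := Q.decomp hk2 z
    exact add_mem (Q.sq.real_mem (R := R.map (RingHom.snd K K)) (fun y hy => Subring.mem_map.2 ⟨_, hreal y hy, rfl⟩) ha)
      (mul_mem (Q.sq.real_mem (R := R.map (RingHom.snd K K)) (fun y hy => Subring.mem_map.2 ⟨_, hreal y hy, rfl⟩) hb) ⟨_, hkR, rfl⟩)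
  refine eq_top_iff.2 fun z _ => ?_
  obtain ⟨⟨a, a'⟩, ha, ea⟩ := hfst (z.1 / c₁)
  obtain ⟨⟨b', b⟩, hb, eb⟩ := hsnd (z.2 / c₂)
  have hr : (z.1 / c₁, z.2 / c₂) ∈ R := by
    have h := R.add_mem (R.mul_mem ha h10) (R.mul_mem hb h01)
    simp only [RingHom.coe_fst, RingHom.coe_snd] at ea eb
    simpa [ea, eb] using h
  simpa [h1, h2] using hr _ hc

end Quint

end Cfsg.Lib.Linear.UExt
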