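import Cfsg.Agent.Lib.Linear.UExt.Semi
import Cfsg.Agent.Lib.Linear.UExt.TwoRing

/-!
# Dimension two over an extension of degree five

A group of isometries of the trace form containing the `K`-linear isometries of determinant one and an element
which is not semilinear contains all transvections.
-/

set_option autoImplicit false
set_option linter.unusedSectionVars false

namespace Cfsg.Lib.Linear.UExt

open Module
open Cfsg.Lib.Linear
open Cfsg.Lib.Linear.ExtField (InG)

section Zero

open MvPolynomial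

variable {F ι α : Type*} [Field F] [Finite F] [Fintype ι] [Fintype α] {σ : F →+* F}

/-- A family of equations of small total degree has a non-zero solution with fixed coordinates. -/
theorem exists_zero_family (hσ : σ ≠ RingHom.id F) (hσ2 : ∀ a, σ (σ a) = a) (P : α → MvPolynomial ι F)
    (hdeg : ∑ i, (P i).totalDegree < Fintype.card ι)
    (hP : ∀ i, ∀ x : ι → F, (∀ j, σ (x j) = x j) → σ (eval x (P i)) = eval x (P i))
    (hP0 : ∀ i, eval 0 (P i) = 0) :
    ∃ x : ι → F, x ≠ 0 ∧ (∀ j, σ (x j) = x j) ∧ ∀ i, eval x (P i) = 0 := by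
  classical
  set E := RingHom.eqLocusField σ (RingHom.id F)
  choose P₀ hPd hPe using fun i => UTensor.exists_descent hσ hσ2 (P i) (hP i)
  have := Fintype.ofFinite E
  obtain ⟨p, hp⟩ := CharP.exists E
  have hd := char_dvd_card_solutions_of_fintype_sum_lt p (f := P₀)
    (lt_of_le_of_lt (Finset.sum_le_sum fun i _ => hPd i) hdeg)
  have e : ∀ i x, eval x (P₀ i) = 0 ↔ eval (fun j => (x j : F)) (P i) = 0 := fun i x => by
    rw [← hPe i x, ZeroMemClass.coe_eq_zero]
  have h0 : ∀ i, eval (0 : ι → E) (P₀ i) = 0 := fun i => (e i 0).2 (hP0 i)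
  obtain ⟨⟨x, hx⟩, hne⟩ := Fintype.exists_ne_of_one_lt_card
    (lt_of_lt_of_le (CharP.char_is_prime E p).one_lt (Nat.le_of_dvd (Fintype.card_pos_iff.2 ⟨⟨0, h0⟩⟩) hd))
    (⟨0, h0⟩ : {x : ι → E // ∀ i, eval x (P₀ i) = 0})
  exact ⟨fun i => (x i : F), fun h => hne (Subtype.ext (funext fun i => Subtype.ext (congrFun h i))),
    fun i => (x i).2, fun i => (e i x).1 (hx i)⟩

end Zero

variable {F K V : Type*} [Field F] [Finite F] [Field K] [Finite K] [Algebra F K] [FiniteDimensional F K]
  [AddCommGroup V] [Module F V] [Module K V] [IsScalarTower F K V] [FiniteDimensional F V] [FiniteDimensional K V]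
  {σ : F →+* F} {ρ : K →+* K} {B : V →ₛₗ[σ] V →ₗ[F] F} {h : V →ₛₗ[ρ] V →ₗ[K] K}
  {G : Subgroup (V ≃ₗ[F] V)}

/-- The radical element at `p` of a map. -/
def rad (h : V →ₛₗ[ρ] V →ₗ[K] K) (p : V) (φ : K →ₗ[F] K) : V →ₗ[F] V :=
  (LinearMap.toSpanSingleton K V p).restrictScalars F ∘ₗ φ ∘ₗ (h p).restrictScalars F

@[simp] theorem rad_apply (p x : V) (φ : K →ₗ[F] K) : rad h p φ x = φ (h p x) • p := rfl

/-- The map of a pair of coefficients. -/
def cmap (ρ : K →+* K) (f : K →ₐ[F] K) (c : K × K) : K →ₗ[F] K :=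
  LinearMap.mulLeft F c.1 ∘ₗ f.toLinearMap
    - f.toLinearMap ∘ₗ f.toLinearMap ∘ₗ f.toLinearMap ∘ₗ f.toLinearMap ∘ₗ LinearMap.mulLeft F (ρ c.1)
    + (LinearMap.mulLeft F c.2 ∘ₗ f.toLinearMap ∘ₗ f.toLinearMap
    - f.toLinearMap ∘ₗ f.toLinearMap ∘ₗ f.toLinearMap ∘ₗ LinearMap.mulLeft F (ρ c.2))

@[simp] theorem cmap_apply (f : K →ₐ[F] K) (c : K × K) (H : K) : cmap ρ f c H =
    c.1 * f H - f (f (f (f (ρ c.1 * H)))) + (c.2 * f (f H) - f (f (f (ρ c.2 * H)))) := rfl

/-- Dimension two over an extension of prime degree. -/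
structure IsTwoBase (B : V →ₛₗ[σ] V →ₗ[F] F) (h : V →ₛₗ[ρ] V →ₗ[K] K) (G : Subgroup (V ≃ₗ[F] V)) : Prop where
  D : Data B h
  two : finrank K V = 2
  isom : ∀ g ∈ G, ∀ x y, B (g x) (g y) = B x y
  klin : ∀ f : V ≃ₗ[K] V, f ∈ Herm.iso h → LinearEquiv.det (f.restrictScalars F) = 1 →
    f.restrictScalars F ∈ G

/-- Dimension two over an extension of degree five. -/
structure IsTwo (B : V →ₛₗ[σ] V →ₗ[F] F) (h : V →ₛₗ[ρ] V →ₗ[K] K) (G : Subgroup (V ≃ₗ[F] V)) : Prop
    extends IsTwoBase B h G where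
  five : finrank F K = 5

namespace IsTwo

variable (T : IsTwo B h G)
include T

theorem exists_quint : ∃ f : K →ₐ[F] K, Quint σ ρ f ∧
    ∀ z, algebraMap F K (Algebra.trace F K z) = z + f z + f (f z) + f (f (f z)) + f (f (f (f z))) := by
  classical
  have := Fintype.ofFinite F
  have := Fintype.ofFinite K
  have hf : ∀ z : K, FiniteField.frobeniusAlgHom F K z = z ^ Fintype.card F := fun z => by
    rw [FiniteField.coe_frobeniusAlgHom]
  refine ⟨FiniteField.frobeniusAlgHom F K, ?_, fun z => ?_⟩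
  · refine ⟨fun x => ?_, fun x hx => ?_, fun x => by rw [hf, hf, map_pow], T.D.invK, T.D.compat,
      T.D.cB.ne_id, T.five, fun x => ?_⟩
    · simp only [hf, ← pow_mul]
      rw [show Fintype.card F * Fintype.card F * Fintype.card F * Fintype.card F * Fintype.card F =
        Fintype.card K by rw [Module.card_eq_pow_finrank (K := F) (V := K), T.five]; ring]
      exact FiniteField.pow_card x
    · rw [hf] at hx
      set S := (Polynomial.X ^ Fintype.card F - Polynomial.X : Polynomial K) with hS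
      have hS0 : S ≠ 0 := FiniteField.X_pow_card_sub_X_ne_zero K Fintype.one_lt_card
      have hsub : Finset.univ.image (algebraMap F K) ⊆ S.roots.toFinset := fun z hz => by
        obtain ⟨a, -, rfl⟩ := Finset.mem_image.1 hz
        rw [Multiset.mem_toFinset, Polynomial.mem_roots hS0]
        simp [hS, ← map_pow, FiniteField.pow_card]
      have heq := Finset.eq_of_subset_of_card_le hsub (by
        rw [Finset.card_image_of_injective _ (algebraMap F K).injective, Finset.card_univ]
        refine (Multiset.toFinset_card_le _).trans ((Polynomial.card_roots' S).trans ?_)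
        rw [hS, FiniteField.X_pow_card_sub_X_natDegree_eq K Fintype.one_lt_card])
      have hx' : x ∈ S.roots.toFinset := by
        rw [Multiset.mem_toFinset, Polynomial.mem_roots hS0]
        simp [hS, hx]
      obtain ⟨a, -, ha⟩ := Finset.mem_image.1 (heq ▸ hx')
      exact ⟨a, ha.symm⟩
    · rw [FiniteField.algebraMap_norm_eq_prod_pow, T.five, Nat.card_eq_fintype_card]
      simp only [Finset.prod_range_succ, Finset.prod_range_zero, hf, ← pow_mul]
      ring_nf
  · rw [FiniteField.algebraMap_trace_eq_sum_pow, T.five, Nat.card_eq_fintype_card]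
    simp only [Finset.sum_range_succ, Finset.sum_range_zero, hf, ← pow_mul]
    ring_nf

end IsTwo

namespace IsTwoBase

variable (T : IsTwoBase B h G)
include T

theorem roots {v : V} (hv : h v v = 0) {a : K} (ha : ρ a = -a) : InG G (root h v a) := by
  have he : a + ρ a + ρ a * a * h v v = 0 := by rw [hv, mul_zero, ha]; ring
  refine ⟨_, T.klin (Herm.qrefl v a he) (Herm.qrefl_mem_iso T.D.ch.symm v a he) ?_, fun x => rfl⟩
  refine Units.ext ?_
  rw [LinearEquiv.coe_det]
  show LinearMap.det ((Herm.qrefl v a he : V →ₗ[K] V).restrictScalars F) = 1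
  rw [LinearMap.det_restrictScalars, ← LinearEquiv.coe_det, Herm.det_qrefl, hv, mul_zero, add_zero, map_one]

theorem perp_eq {p x : V} (hp : p ≠ 0) (hpp : h p p = 0) (hx : h p x = 0) : x ∈ K ∙ p := by
  have h1 := (h p).finrank_range_add_finrank_ker
  have h2 : LinearMap.range (h p) ≠ ⊥ := fun e => hp (T.D.ch.ext_left fun w => by
    have := LinearMap.range_eq_bot.1 e
    simp [this])
  have h3 : finrank K (LinearMap.range (h p)) ≠ 0 := fun e => h2 (Submodule.finrank_eq_zero.1 e)
  rw [T.two] at h1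
  have hle : K ∙ p ≤ LinearMap.ker (h p) := (Submodule.span_singleton_le_iff_mem p _).2 hpp
  have := Submodule.eq_of_le_of_finrank_le hle (by rw [finrank_span_singleton hp]; omega)
  exact this ▸ LinearMap.mem_ker.2 hx

theorem coord {p p' : V} (hpp : h p p = 0) (hp'p' : h p' p' = 0) (hpp' : h p p' = 1) (x : V) :
    x = h p' x • p + h p x • p' := by
  have hp : p ≠ 0 := fun e => by rw [e] at hpp'; simp at hpp'
  have hp'p : h p' p = 1 := T.D.ch.swap_one hpp'
  obtain ⟨c, hc⟩ := Submodule.mem_span_singleton.1 (T.perp_eq hp hpp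
    (show h p (x - (h p' x • p + h p x • p')) = 0 by simp [hpp, hpp']))
  have h1 := congrArg (h p') hc
  simp [hp'p, hp'p'] at h1
  rw [h1, zero_smul, eq_comm, sub_eq_zero] at hc
  exact hc

/-- Maps preserving the isotropic lines are semilinear. -/
theorem semilinear {g : V ≃ₗ[F] V} (hg : ∀ (u : V) (k : K), h u u = 0 → g (k • u) ∈ K ∙ g u) :
    ∀ k : K, ∃ a : K, ∀ v, g (k • v) = a • g v := by
  obtain ⟨p, -, hp, hpp⟩ := Herm.exists_iso_ne_zero T.D.ch.ne_id T.D.ch.invol T.D.ch.symm ⊤
    (by rw [finrank_top, T.two])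
  obtain ⟨p', hp'p', hpp'⟩ := T.D.ch.exists_partner hp hpp
  have hp' : p' ≠ 0 := fun e => by rw [e] at hpp'; simp at hpp'
  have hgp : g p ≠ 0 := fun e => hp (g.injective (by rw [e, map_zero]))
  have hgp' : g p' ≠ 0 := fun e => hp' (g.injective (by rw [e, map_zero]))
  choose α hα using fun k => Submodule.mem_span_singleton.1 (hg p k hpp)
  choose β hβ using fun k => Submodule.mem_span_singleton.1 (hg p' k hp'p')
  have hαinj : Function.Injective α := fun a b e => smul_left_injective K hp (g.injective (by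
    show g (a • p) = g (b • p)
    rw [← hα, e, hα]))
  have hind : ∀ a b : K, a • g p + b • g p' = 0 → a = 0 ∧ b = 0 := by
    intro a b e
    by_cases hb : b = 0
    · rw [hb, zero_smul, add_zero] at e
      exact ⟨(smul_eq_zero.1 e).resolve_right hgp, hb⟩
    exfalso
    have h1 : g p' = (-(a / b)) • g p := by
      rw [neg_smul, div_eq_inv_mul, mul_smul, eq_neg_of_add_eq_zero_left e, smul_neg, neg_neg, smul_smul,
        inv_mul_cancel₀ hb, one_smul]
    obtain ⟨k, hk⟩ := Finite.surjective_of_injective hαinj (-(a / b))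
    rw [← hk, hα, g.injective.eq_iff] at h1
    rw [h1, map_smul, hpp, smul_zero] at hpp'
    exact zero_ne_one hpp'
  have heq : ∀ a a' b b' : K, a • g p + b • g p' = a' • g p + b' • g p' → a = a' ∧ b = b' := fun a a' b b' e => by
    have h1 := hind (a - a') (b - b') (by rw [sub_smul, sub_smul, ← sub_eq_zero.2 e]; abel)
    exact ⟨sub_eq_zero.1 h1.1, sub_eq_zero.1 h1.2⟩
  have hskew : ∀ a l : K, ρ a = -a → α (l * a) = β l * α a := by
    intro a l ha
    have hz : h (a • p + p') (a • p + p') = 0 := by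
      simp [hpp, hp'p', hpp', T.D.ch.swap_one hpp', ha]
    obtain ⟨c, hc⟩ := Submodule.mem_span_singleton.1 (hg _ l hz)
    rw [smul_add, smul_smul, map_add, map_add, ← hα, ← hα, ← hβ, smul_add, smul_smul] at hc
    obtain ⟨h1, h2⟩ := heq _ _ _ _ hc
    rw [← h1, h2]
  have hαlin : ∀ (x : F) (k : K), α (algebraMap F K x * k) = algebraMap F K x * α k := fun x k =>
    smul_left_injective K hgp (by
      show α (algebraMap F K x * k) • g p = (algebraMap F K x * α k) • g p
      rw [hα, mul_smul, algebraMap_smul, map_smul, mul_smul, algebraMap_smul, hα])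
  have hαadd : ∀ a b, α (a + b) = α a + α b := fun a b => smul_left_injective K hgp (by
    show α (a + b) • g p = (α a + α b) • g p
    rw [hα, add_smul, map_add, add_smul, hα, hα])
  have hα1 : α 1 = 1 := smul_left_injective K hgp (by show α 1 • g p = (1 : K) • g p; rw [hα, one_smul, one_smul])
  obtain ⟨η₀, hη₀, hη⟩ := T.D.exists_anti
  have hη' : algebraMap F K η₀ ≠ 0 := by simpa using hη₀
  have hreal : ∀ s l : K, ρ s = s → α (l * s) = β l * α s := fun s l hs => by
    have h1 := hskew (algebraMap F K η₀ * s) l (by rw [map_mul, T.D.compat, hη, map_neg, hs, neg_mul])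
    rw [mul_left_comm, hαlin, hαlin, mul_left_comm] at h1
    exact mul_left_cancel₀ hη' h1
  have hβα : ∀ l, β l = α l := fun l => by
    have := hreal 1 l (map_one ρ)
    rw [mul_one, hα1, mul_one] at this
    exact this.symm
  have hmul : ∀ l k : K, α (l * k) = α l * α k := by
    intro l k
    induction T.D.mem_real_span k using Submodule.span_induction with
    | mem s hs => rw [hreal s l hs, hβα]
    | zero =>
      have h0 : α 0 = 0 := by have := hαadd 0 0; simpa using this
      rw [mul_zero, h0, mul_zero]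
    | add a b _ _ ha hb => rw [mul_add, hαadd, ha, hb, hαadd, mul_add]
    | smul x a _ ha => rw [Algebra.smul_def, mul_left_comm, hαlin, ha, hαlin, mul_left_comm]
  intro k
  refine ⟨α k, fun v => ?_⟩
  rw [T.coord hpp hp'p' hpp' v]
  simp only [smul_add, smul_smul, map_add, ← hα, ← hβ, hβα, hmul]

/-- An element scaling an isotropic line. -/
theorem diag_mem {p p' : V} (hpp : h p p = 0) (hp'p' : h p' p' = 0) (hpp' : h p p' = 1) {k : K}
    (hk : k ≠ 0) (hN : Algebra.norm F (k / ρ k) = 1) :
    ∃ M ∈ G, ∀ x, M x = (k * h p' x) • p + (h p x / ρ k) • p' := by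
  have hp'p : h p' p = 1 := T.D.ch.swap_one hpp'
  have hρk : ρ k ≠ 0 := by simpa using hk
  let L : V →ₗ[K] V := (k • h p').smulRight p + ((ρ k)⁻¹ • h p).smulRight p'
  have hL : ∀ x, L x = (k * h p' x) • p + (h p x / ρ k) • p' := fun x => by
    simp [L, div_eq_inv_mul]
  have hiso : ∀ x y, h (L x) (L y) = h x y := by
    intro x y
    conv_rhs => rw [T.coord hpp hp'p' hpp' x, T.coord hpp hp'p' hpp' y]
    simp only [hL, map_add, map_smul, LinearMap.map_smulₛₗ, LinearMap.add_apply, LinearMap.smul_apply,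
      RingHom.id_apply, smul_eq_mul, hpp, hp'p', hpp', hp'p, map_mul, map_div₀, T.D.invK]
    field_simp
    ring
  have hinj : Function.Injective L := fun x y e => sub_eq_zero.1 (T.D.ch.ext_left fun z => by
    rw [← hiso, map_sub, e, sub_self]; simp)
  let f : V ≃ₗ[K] V := LinearEquiv.ofInjectiveEndo L hinj
  have hfL : ∀ x, f x = L x := fun x => rfl
  refine ⟨_, T.klin f (fun x y => hiso x y) ?_, fun x => hL x⟩
  refine Units.ext ?_
  rw [LinearEquiv.coe_det]
  show LinearMap.det ((f : V →ₗ[K] V).restrictScalars F) = 1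
  have hli : LinearIndependent K ![p, p'] := by
    rw [LinearIndependent.pair_iff]
    intro s t e
    have h1 := congrArg (h p) e
    have h2 := congrArg (h p') e
    simp [hpp, hpp', hp'p, hp'p'] at h1 h2
    exact ⟨h2, h1⟩
  let b := basisOfLinearIndependentOfCardEqFinrank hli (by rw [T.two]; rfl)
  have hb : ∀ i, b i = ![p, p'] i := fun i => by simp [b]
  have hb0 : b 0 = p := hb 0
  have hb1 : b 1 = p' := hb 1
  have e0 : L (b 0) = k • b 0 := by rw [hb0, hL]; simp [hpp, hp'p]
  have e1 : L (b 1) = (ρ k)⁻¹ • b 1 := by rw [hb1, hL]; simp [hpp', hp'p']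
  have hdet : LinearMap.det L = k / ρ k := by
    rw [← LinearMap.det_toMatrix b, Matrix.det_fin_two]
    simp only [LinearMap.toMatrix_apply, e0, e1, map_smul, Basis.repr_self, Finsupp.smul_apply, smul_eq_mul]
    simp [div_eq_mul_inv]
  rw [LinearMap.det_restrictScalars, show (f : V →ₗ[K] V) = L from rfl, hdet, hN]

/-- An element exchanging two isotropic lines. -/
theorem weyl_mem {p p' : V} (hpp : h p p = 0) (hp'p' : h p' p' = 0) (hpp' : h p p' = 1) :
    ∃ M ∈ G, ∃ η : K, η ≠ 0 ∧ ∀ s : K, M (s • p) = (s * η) • p' := by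
  have hp'p : h p' p = 1 := T.D.ch.swap_one hpp'
  obtain ⟨η₀, hη₀, hη⟩ := T.D.exists_anti
  set η := algebraMap F K η₀ with hηd
  have hη' : ρ η = -η := by rw [hηd, T.D.compat, hη, map_neg]
  have hη0 : η ≠ 0 := by simpa [hηd] using hη₀
  obtain ⟨X, hX, hXa⟩ := T.roots hpp (show ρ (-η⁻¹) = -(-η⁻¹) by rw [map_neg, map_inv₀, hη', inv_neg])
  obtain ⟨Y, hY, hYa⟩ := T.roots hp'p' hη'
  refine ⟨X * Y * X, G.mul_mem (G.mul_mem hX hY) hX, η, hη0, fun s => ?_⟩
  show X (Y (X (s • p))) = _
  have e1 : X (s • p) = s • p := by simp [hXa, hpp]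
  have e2 : Y (s • p) = s • p + (s * η) • p' := by simp [hYa, hp'p, mul_comm]
  rw [e1, e2, hXa]
  simp [hpp, hpp']
  match_scalars <;> field_simp <;> ring

/-- A moved isotropic line gives a pairing of rank one. -/
theorem exists_rankOne (hm : ∃ g ∈ G, ∃ (u : V) (k : K), h u u = 0 ∧ g (k • u) ∉ K ∙ g u) :
    ∃ g u p τ, RankOne h G g u p τ := by
  classical
  obtain ⟨g, hg, u, k, huu, hk⟩ := hm
  have hu : u ≠ 0 := fun e => hk (by rw [e, smul_zero, map_zero]; exact zero_mem _)
  obtain ⟨θ, hθ⟩ := T.D.cB.exists_not_fixed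
  obtain ⟨t, hts, h1t, hspan, hind⟩ := exists_linearIndepOn_id_extension (K := F) (V := K)
    (s := {1}) (t := {c : K | ρ c = c}) (LinearIndepOn.singleton one_ne_zero)
    (Set.singleton_subset_iff.2 (map_one ρ))
  have := hind.setFinite.fintype
  have hcard : Fintype.card t ≤ finrank F K := by
    have h1 := finrank_span_set_eq_card (R := F) hind
    have h2 := Submodule.finrank_le (Submodule.span F t)
    rw [Set.toFinset_card] at h1
    omega
  have hr0 : 0 < finrank F K := Module.finrank_pos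
  have h1t' : (1 : K) ∈ t := h1t (Set.mem_singleton 1)
  let bas := Module.finBasis F K
  obtain ⟨e, he⟩ : ∃ e : Fin (finrank F K) × Fin 2 → K, ∀ a, e a = θ ^ (a.2 : ℕ) • bas a.1 := ⟨_, fun a => rfl⟩
  let Φ : K →ₗ[F] V := (g : V →ₗ[F] V) ∘ₗ (LinearMap.toSpanSingleton K V u).restrictScalars F
  let P : t → MvPolynomial (Fin (finrank F K) × Fin 2) F := fun c =>
    UTensor.quadPoly fun a b => B ((c : K) • Φ (e a)) (Φ (e b))
  have hev : ∀ (c : t) (y : Fin (finrank F K) × Fin 2 → F), (∀ a, σ (y a) = y a) →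
      MvPolynomial.eval y (P c) = B ((c : K) • Φ (∑ a, y a • e a)) (Φ (∑ a, y a • e a)) := by
    intro c y hy
    rw [UTensor.eval_quadPoly]
    simp only [map_sum, Finset.smul_sum, LinearMap.sum_apply]
    refine Eq.trans ?_ Finset.sum_comm
    refine Finset.sum_congr rfl fun a _ => Finset.sum_congr rfl fun b _ => ?_
    rw [Φ.map_smul, Φ.map_smul, smul_comm (c : K) (y a), LinearMap.map_smulₛₗ₂ B (y a), (B ((c : K) • Φ (e a))).map_smul, hy, smul_eq_mul,
      smul_eq_mul]
    ring
  obtain ⟨y, hy0, hy, hyP⟩ := exists_zero_family T.D.cB.ne_id T.D.cB.invol P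
    (by
      rw [← Finset.sum_erase (a := (⟨1, h1t'⟩ : t)) Finset.univ (by
        have hΦ : ∀ a b, B (Φ (e a)) (Φ (e b)) = 0 := fun a b => by
          show B (g (e a • u)) (g (e b • u)) = 0
          rw [T.isom g hg, T.D.smul_left, map_smul, huu, smul_zero, mul_zero, map_zero]
        rw [show P ⟨1, h1t'⟩ = 0 by simp only [P, one_smul, hΦ, UTensor.quadPoly, UTensor.linPoly, map_zero, zero_mul, Finset.sum_const_zero]]
        exact MvPolynomial.totalDegree_zero)]
      refine lt_of_le_of_lt (Finset.sum_le_card_nsmul _ _ 2 fun c _ => UTensor.totalDegree_quadPoly _) ?_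
      simp only [Finset.card_erase_of_mem (Finset.mem_univ _), Finset.card_univ, Fintype.card_prod,
        Fintype.card_fin, smul_eq_mul]
      have e1 : ∀ i : Fintype {x // x ∈ t}, @Fintype.card _ i = Fintype.card t := fun i => Fintype.card_congr' rfl
      simp only [e1]
      omega)
    (fun c x hx => by
      rw [hev c x hx, T.D.cB.symm.eq, T.D.smul_left, T.D.smul_right, show ρ (c : K) = c from hts c.2])
    (fun c => by rw [hev c 0 fun a => map_zero σ]; simp)
  set k₀ := ∑ a, y a • e a with hk₀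
  have hk₀0 : k₀ ≠ 0 := by
    intro h0
    have h1 : ∑ i, (y (i, 0) + y (i, 1) * θ) • bas i = 0 := by
      rw [← h0, hk₀, Fintype.sum_prod_type]
      simp [he, Fin.sum_univ_two, add_smul, smul_smul]
    refine hy0 (funext fun a => ?_)
    have h2 := Fintype.linearIndependent_iff.1 bas.linearIndependent _ h1 a.1
    have h3 := congrArg σ h2
    rw [map_add, map_mul, hy, hy, map_zero] at h3
    have h4 : y (a.1, 1) * (σ θ - θ) = 0 := by linear_combination h3 - h2
    have h5 := (mul_eq_zero.1 h4).resolve_right (sub_ne_zero.2 hθ)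
    rw [h5, zero_mul, add_zero] at h2
    rcases a with ⟨i, j⟩
    fin_cases j <;> simp_all
  set x := g (k₀ • u) with hxd
  have hx : x ≠ 0 := fun h0 => hk₀0 ((smul_eq_zero.1 (g.injective (h0.trans (map_zero g).symm))).resolve_right hu)
  have hxx : h x x = 0 := by
    refine T.D.ext_trace fun z => ?_
    rw [mul_zero, map_zero]
    let l : K →ₗ[F] F := Algebra.trace F K ∘ₗ LinearMap.mulRight F (h x x)
    have hl : ∀ w, l w = Algebra.trace F K (w * h x x) := fun w => rfl
    have h0 : Submodule.span F t ≤ LinearMap.ker l := Submodule.span_le.2 fun c hc => by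
      rw [SetLike.mem_coe, LinearMap.mem_ker, hl]
      have h1 := hyP ⟨c, hc⟩
      rw [hev _ _ hy] at h1
      rwa [show Φ (∑ a, y a • e a) = x from rfl, T.D.smul_left, show ρ c = c from hts hc] at h1
    have h1 : Submodule.span F {c : K | ρ c = c} ≤ LinearMap.ker l :=
      (Submodule.span_le.2 hspan).trans h0
    exact (hl _).symm.trans (LinearMap.mem_ker.1 (h1 (T.D.mem_real_span (ρ z))))
  refine T.D.rankOne_of_pair T.isom (fun v hv a ha => T.roots hv ha) hg huu hxx ?_ ?_
  · intro h0
    have hline : ∀ l : K, g (l • u) ∈ K ∙ x := fun l => T.perp_eq hx hxx (LinearMap.congr_fun h0 l)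
    obtain ⟨a, ha⟩ := Submodule.mem_span_singleton.1 (hline 1)
    rw [one_smul] at ha
    refine hk (?_ : g (k • u) ∈ K ∙ g u)
    have ha0 : a ≠ 0 := fun e => hu (g.injective (by rw [← ha, e, zero_smul, map_zero]))
    rw [← ha, Submodule.span_singleton_smul_eq (Ne.isUnit ha0)]
    exact hline k
  · intro h0
    have : k₀ ∈ LinearMap.ker (pair h g u x) := by rw [LinearMap.mem_ker, pair_apply]; exact hxx
    rw [h0, Submodule.mem_bot] at this
    exact hk₀0 this

end IsTwoBase

end Cfsg.Lib.Linear.UExt
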