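import Cfsg.Agent.Lib.Linear.UExt.Two

/-!
# Transvections in dimension two over an extension of degree five

The commutators at a pairing of rank one give radical elements whose coefficients in the powers of the
automorphism are all non-zero, so the torus makes every radical element available.
-/

set_option autoImplicit false
set_option linter.unusedSectionVars false

namespace Cfsg.Lib.Linear.UExt

open Module
open Cfsg.Lib.Linear
open Cfsg.Lib.Linear.ExtField (InG)

variable {F K V : Type*} [Field F] [Finite F] [Field K] [Finite K] [Algebra F K] [FiniteDimensional F K]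
  [AddCommGroup V] [Module F V] [Module K V] [IsScalarTower F K V] [FiniteDimensional F V] [FiniteDimensional K V]
  {σ : F →+* F} {ρ : K →+* K} {B : V →ₛₗ[σ] V →ₗ[F] F} {h : V →ₛₗ[ρ] V →ₗ[K] K}
  {G : Subgroup (V ≃ₗ[F] V)}

/-- A coefficient of the commutator vanishes only at proportional parameters. -/
theorem Quint.coeff_ne {f : K →ₐ[F] K} (Q : Quint σ ρ f) {b γ : K} (hb : ρ b = -b) (hb0 : b ≠ 0)
    (hne : ∀ c : F, γ ≠ algebraMap F K c * b) : b * f (ρ γ) + γ * f b ≠ 0 := by
  intro h0
  set y := γ / b with hy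
  have hfb : f b ≠ 0 := fun e => hb0 (Q.f_inj (by rw [e, map_zero]))
  have h1 : f (ρ y) = y := by
    simp only [hy, map_div₀, hb, map_neg]
    field_simp
    linear_combination -h0
  have h2 : f (f y) = y := by
    have := congrArg (fun z => f (ρ z)) h1
    simp only [Q.comm, Q.invol] at this
    exact this.trans h1
  obtain ⟨c, hc⟩ := Q.fixed y (Q.fixed_of_sq h2)
  exact hne c (by rw [← hc, hy, div_mul_cancel₀ _ hb0])

namespace IsTwoBase

variable (T : IsTwoBase B h G)
include T

/-- From the centres on one isotropic line, all transvections. -/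
theorem tv_le_of_line {p : V} (hp : p ≠ 0) (hpp : h p p = 0) (hcp : ∀ a : K, Centre B G (a • p)) :
    Herm.tvGroup B ≤ G := by
  obtain ⟨p', hp'p', hpp'⟩ := T.D.ch.exists_partner hp hpp
  obtain ⟨W, hW, η, hη, hWp⟩ := T.weyl_mem hpp hp'p' hpp'
  have hmap : ∀ {v}, Centre B G v → ∀ {M : V ≃ₗ[F] V}, M ∈ G → Centre B G (M v) := fun {v} hv {M} hM l hl => by
    refine InG.conj (hv l hl) hM fun x => ?_
    simp [T.isom M hM, map_smul]
  have hcp' : ∀ a : K, Centre B G (a • p') := fun a => by
    have := hmap (hcp (a / η)) hW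
    rwa [hWp, div_mul_cancel₀ _ hη] at this
  have hcomm : ∀ {e v : V}, Centre B G e → Centre B G v → ∀ {l : F}, σ l = -l →
      Centre B G (v + (l * B e v) • e) := fun {e v} he hv {l} hl => by
    obtain ⟨M, hM, hMa⟩ := he l hl
    have := hmap hv hM
    rwa [hMa, tvm_apply] at this
  have hBp : ∀ (q : V), h q q = 0 → ∀ a b : K, B (a • q) (b • q) = 0 := fun q hq a b => by
    rw [T.D.smul_left, map_smul, hq, smul_zero, mul_zero, map_zero]
  refine tv_le_of_centres fun v hv => ?_
  rw [T.coord hpp hp'p' hpp' v] at hv ⊢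
  generalize h p' v = α, h p v = β at hv ⊢
  have generic : ∀ α : K, B (α • p + β • p') (α • p + β • p') = 0 → B (α • p) (β • p') ≠ 0 →
      Centre B G (α • p + β • p') := by
    intro α hv h0
    have hs : B (β • p') (α • p) = σ (B (α • p) (β • p')) := (T.D.cB.symm.eq _ _).symm
    simp only [map_add, LinearMap.add_apply, hBp p hpp, hBp p' hp'p', zero_add, add_zero, hs] at hv
    have hl : σ (B (α • p) (β • p'))⁻¹ = -(B (α • p) (β • p'))⁻¹ := by
      rw [map_inv₀, eq_neg_of_add_eq_zero_left (show σ (B (α • p) (β • p')) + B (α • p) (β • p') = 0 by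
        linear_combination hv), inv_neg]
    have := hcomm (hcp α) (hcp' β) hl
    rwa [inv_mul_cancel₀ h0, one_smul, add_comm] at this
  by_cases h0 : B (α • p) (β • p') ≠ 0
  · exact generic α hv h0
  push Not at h0
  rcases eq_or_ne β 0 with rfl | hβ
  · simpa using hcp α
  obtain ⟨η₀, hη₀, hη'⟩ := T.D.exists_anti
  obtain ⟨k₁, hk₁⟩ := Algebra.trace_surjective F K 1
  obtain ⟨m, hm'⟩ : ∃ m : K, B (m • p) (β • p') = 1 :=
    ⟨ρ (k₁ / β), by rw [T.D.smul_left, T.D.invK, map_smul, hpp', smul_eq_mul, mul_one, div_mul_cancel₀ _ hβ, hk₁]⟩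
  have hm2 : B (m • p) (α • p + β • p') = 1 := by rw [map_add, hBp p hpp, zero_add, hm']
  have hmm : ∀ c : F, B (m • p) (α • p + β • p' + c • (m • p)) = 1 := fun c => by
    rw [map_add, hm2, (B (m • p)).map_smul, hBp p hpp, smul_zero, add_zero]
  have hv' : α • p + β • p' + η₀ • (m • p) = (α + algebraMap F K η₀ * m) • p + β • p' := by
    rw [← algebraMap_smul K η₀ (m • p), smul_smul, add_smul]; abel
  have hiso : B ((α + algebraMap F K η₀ * m) • p + β • p') ((α + algebraMap F K η₀ * m) • p + β • p') = 0 := by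
    rw [← hv']
    have h1 : B (α • p + β • p') (m • p) = 1 := by rw [← T.D.cB.symm.eq, hm2, map_one]
    simp only [map_add, LinearMap.add_apply, LinearMap.map_smulₛₗ₂, LinearMap.smul_apply, smul_eq_mul] at hv h1 ⊢
    simp only [(B _).map_smul, smul_eq_mul, hBp p hpp, hBp p' hp'p'] at hv h1 ⊢
    linear_combination hv + η₀ * h1 + hη' + (σ η₀) * hm'
  have hne : B ((α + algebraMap F K η₀ * m) • p) (β • p') ≠ 0 := by
    rw [add_smul, mul_smul, algebraMap_smul, map_add, LinearMap.add_apply, h0, zero_add,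
      LinearMap.map_smulₛₗ₂, hm', smul_eq_mul, mul_one, hη', neg_ne_zero]
    exact hη₀
  have := hcomm (e := m • p) (hcp m) (generic _ hiso hne) (l := -η₀) (by rw [map_neg, hη'])
  rw [← hv', hmm, mul_one, neg_smul, add_neg_cancel_right] at this
  exact this

end IsTwoBase

namespace IsTwo

variable (T : IsTwo B h G)
include T

/-- Every radical element. -/
theorem cmap_mem (hm : ∃ g ∈ G, ∃ (u : V) (k : K), h u u = 0 ∧ g (k • u) ∉ K ∙ g u)
    {f : K →ₐ[F] K} (Q : Quint σ ρ f)
    (htr : ∀ z, algebraMap F K (Algebra.trace F K z) = z + f z + f (f z) + f (f (f z)) + f (f (f (f z)))) :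
    ∃ p, p ≠ 0 ∧ h p p = 0 ∧ ∀ c, InG G (rad h p (cmap ρ f c)) := by
  obtain ⟨g, u, p, τ, R⟩ := T.exists_rankOne hm
  have D := T.D
  have hG : Over B h G :=
    ⟨T.isom, fun v hv hd => T.klin v hv (by
      refine Units.ext ?_
      rw [LinearEquiv.coe_det]
      show LinearMap.det ((v : V →ₗ[K] V).restrictScalars F) = 1
      rw [LinearMap.det_restrictScalars, ← LinearEquiv.coe_det, hd, Units.val_one, map_one]), hm⟩
  obtain ⟨k₀, hk₀⟩ := Algebra.trace_surjective F K 1
  set t := h u (g.symm (k₀ • p)) with htd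
  have ht : ∀ k, h u (g.symm (k • p)) = algebraMap F K (Algebra.trace F K k) * t := fun k => by
    refine D.ext_trace fun k' => ?_
    rw [R.adj D hG, show ρ k' * (algebraMap F K (Algebra.trace F K k) * t) =
      (ρ k' * t) * algebraMap F K (Algebra.trace F K k) by ring, D.trace_mul_algebraMap, htd, R.adj D hG, hk₀]
    ring
  have hτt : ∀ x, Algebra.trace F K (x * ρ t) = τ x := fun x => by
    have := congrArg σ (R.adj D hG x k₀)
    rw [hk₀, one_mul, D.cB.invol, ← D.tr_conj, map_mul, D.invK, ← htd] at this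
    exact this
  have ht0 : t ≠ 0 := fun e0 => R.ne (LinearMap.ext fun x => by
    rw [← hτt, e0, map_zero, mul_zero, map_zero, LinearMap.zero_apply])
  have hρt : ρ t ≠ 0 := by simpa using ht0
  have hu : u ≠ 0 := fun e => R.ne (LinearMap.ext fun k => (algebraMap F K).injective (by
    rw [← R.eq, e, smul_zero, map_zero, map_zero, LinearMap.zero_apply, map_zero]))
  have hp : p ≠ 0 := fun e => R.ne (LinearMap.ext fun k => (algebraMap F K).injective (by
    rw [← R.eq, e]; simp))
  obtain ⟨p', hp'p', hpp'⟩ := D.ch.exists_partner hp R.iso_p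
  obtain ⟨η₀, hη₀, hη⟩ := D.exists_anti
  set η := algebraMap F K η₀ with hηd
  have hη0 : η ≠ 0 := by simpa [hηd] using hη₀
  have hηr : ρ η = -η := by rw [hηd, D.compat, hη, map_neg]
  obtain ⟨d, hd0, hd, hd1⟩ := D.exists_real_trace_zero
  set a := η * d / (t * ρ t) with had
  have ha : ρ a = -a := by
    rw [had, map_div₀, map_mul, map_mul, hηr, hd, D.invK]
    rw [mul_comm (ρ t) t, neg_mul, neg_div]
  have hat : a * t = η * (d / ρ t) := by
    rw [had]
    field_simp
  have hτ : τ (a * t) = 0 := by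
    rw [← hτt, hat, mul_assoc, div_mul_cancel₀ _ hρt, hηd, mul_comm, D.trace_mul_algebraMap, hd1, zero_mul]
  obtain ⟨γ, hγ⟩ := Submodule.mem_span_singleton.1
    (T.perp_eq hp R.iso_p (show h p (g ((a * t) • u)) = 0 by rw [R.eq, hτ, map_zero]))
  have hγ0 : γ ≠ 0 := by
    intro e
    have h1 : (a * t) • u = 0 := g.injective (by rw [← hγ, e, zero_smul, map_zero])
    refine mul_ne_zero hη0 (div_ne_zero hd0 hρt) ?_
    rw [← hat]
    exact (smul_eq_zero.1 h1).resolve_right hu
  -- a parameter of trace zero not proportional to the first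
  obtain ⟨d', hd'0, hd', hd'1, hne⟩ : ∃ d' : K, d' ≠ 0 ∧ ρ d' = d' ∧ Algebra.trace F K d' = 0 ∧
      ∀ c : F, γ ≠ algebraMap F K c * (η * d') := by
    by_contra hc
    push Not at hc
    have hsub : LinearMap.ker (Algebra.trace F K) ≤ Submodule.span F {γ / η} := fun z hz => by
      refine (Submodule.span_le.2 ?_) (D.mem_real_span_zero (LinearMap.mem_ker.1 hz))
      rintro z' ⟨hz', hz'1⟩
      rcases eq_or_ne z' 0 with rfl | hz'0
      · exact Submodule.zero_mem _
      obtain ⟨c, hc'⟩ := hc z' hz'0 hz' hz'1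
      have hc0 : c ≠ 0 := fun e => hγ0 (by rw [hc', e, map_zero, zero_mul])
      refine Submodule.mem_span_singleton.2 ⟨c⁻¹, ?_⟩
      rw [Algebra.smul_def, hc', map_inv₀]
      have : algebraMap F K c ≠ 0 := by simpa using hc0
      field_simp
    have h1 := Submodule.finrank_mono hsub
    have h2 := (Algebra.trace F K).finrank_range_add_finrank_ker
    rw [LinearMap.range_eq_top.2 (Algebra.trace_surjective F K), finrank_top, finrank_self, T.five] at h2
    have h3 : finrank F (Submodule.span F {γ / η}) ≤ 1 :=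
      (finrank_span_le_card _).trans (by simp)
    omega
  set b := η * d' with hbd
  have hb : ρ b = -b := by rw [hbd, map_mul, hηr, hd', neg_mul]
  have hb0 : b ≠ 0 := mul_ne_zero hη0 hd'0
  have hbt : Algebra.trace F K b = 0 := by
    rw [hbd, hηd, mul_comm, D.trace_mul_algebraMap, hd'1, zero_mul]
  have hei : InG G (eich B (γ • p) (b • p)) := by
    have := R.inG D hG ht ha hτ hb
    rw [← hγ] at this
    exact this.congr fun x => by rw [LinearMap.add_apply, tvm_apply, hbt, zero_mul, zero_smul, add_zero]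
  have hpz : ∀ z : K, h p (z • p) = 0 := fun z => by rw [map_smul, R.iso_p, smul_zero]
  have hcm : ∀ c c' H, cmap ρ f (c + c') H = cmap ρ f c H + cmap ρ f c' H := fun c c' H => by
    simp only [cmap_apply, Prod.fst_add, Prod.snd_add, map_add, add_mul]
    ring
  let N : AddSubgroup (K × K) :=
    { carrier := {c | InG G (rad h p (cmap ρ f c))}
      add_mem' := fun {c c'} hc hc' => (hc.add hc' fun x => by simp [hpz]).congr fun x => by
        rw [LinearMap.add_apply, rad_apply, rad_apply, rad_apply, hcm, add_smul]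
      zero_mem' := InG.zero.congr fun x => by simp
      neg_mem' := fun {c} hc => (hc.neg fun x => by simp [hpz]).congr fun x => by
        rw [LinearMap.neg_apply, rad_apply, rad_apply, ← neg_smul]
        congr 1
        simp only [cmap_apply, Prod.fst_neg, Prod.snd_neg, map_neg, neg_mul]
        ring }
  have hN : ∀ k : K, k ≠ 0 → Algebra.norm F (k / ρ k) = 1 → ∀ c ∈ N,
      (k * f (ρ k), k * f (f (ρ k))) * c ∈ N := by
    intro k hk hn c hc
    obtain ⟨M, hM, hMa⟩ := T.diag_mem R.iso_p hp'p' hpp' hk hn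
    refine InG.conj (b := rad h p (cmap ρ f _)) hc hM fun x => ?_
    have hρk : ρ k ≠ 0 := by simpa using hk
    have hMx : h p (M x) = h p x / ρ k := by simp [hMa, R.iso_p, hpp']
    have hMp : ∀ z : K, M (z • p) = (k * z) • p := fun z => by
      simp [hMa, R.iso_p, T.D.ch.swap_one hpp']
    rw [rad_apply, rad_apply, hMx, hMp]
    congr 1
    set H := h p x
    have e1 : f (ρ k) ≠ 0 := fun e => hρk (Q.f_inj (by rw [e, map_zero]))
    have e2 : f (f (ρ k)) ≠ 0 := fun e => e1 (Q.f_inj (by rw [e, map_zero]))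
    have e3 : f (f (f (ρ k))) ≠ 0 := fun e => e2 (Q.f_inj (by rw [e, map_zero]))
    have e4 : f (f (f (f (ρ k)))) ≠ 0 := fun e => e3 (Q.f_inj (by rw [e, map_zero]))
    simp only [cmap_apply, Prod.fst_mul, Prod.snd_mul, map_mul, map_div₀, Q.comm, Q.invol, Q.five]
    field_simp
  set C₁ := b * f (ρ γ) + γ * f b with hC₁
  set C₂ := b * f (f (ρ γ)) + γ * f (f b) with hC₂
  set C₀ := b * ρ γ + γ * b with hC₀
  have hC₀' : ρ C₀ = -C₀ := by simp only [hC₀, map_add, map_mul, hb, D.invK]; ring
  have hC : (C₁, C₂) ∈ N := by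
    have hneg : ρ (-C₀) = -(-C₀) := by rw [map_neg, hC₀']
    refine (hei.add (T.roots R.iso_p hneg) fun x => ?_).congr fun x => ?_
    · simp [T.D.tr, R.iso_p]
    · simp only [LinearMap.add_apply, eich_apply, root_apply, rad_apply, D.smul_left]
      rw [← algebraMap_smul K (Algebra.trace F K (ρ γ * h p x)) (b • p),
        ← algebraMap_smul K (Algebra.trace F K (ρ b * h p x)) (γ • p), smul_smul, smul_smul, ← sub_smul, ← add_smul,
        htr, htr]
      congr 1
      simp only [cmap_apply, hC₀, hC₁, hC₂, map_add, map_mul, Q.comm, hb, Q.invol, map_neg, Q.five]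
      ring
  have htop := Q.all_pairs N hN (Q.coeff_ne hb hb0 hne) (Q.sq.coeff_ne hb hb0 hne) hC
  exact ⟨p, hp, R.iso_p, fun c => (htop ▸ AddSubgroup.mem_top c : c ∈ N)⟩

/-- Every vector of the line is a centre. -/
theorem centre_line {p : V} (hpp : h p p = 0) {f : K →ₐ[F] K} (Q : Quint σ ρ f)
    (htr : ∀ z, algebraMap F K (Algebra.trace F K z) = z + f z + f (f z) + f (f (f z)) + f (f (f (f z))))
    (hall : ∀ c, InG G (rad h p (cmap ρ f c))) (k : K) : Centre B G (k • p) := by
  intro l hl
  set e := algebraMap F K l with he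
  have hel : ρ e = -e := by rw [he, T.D.compat, hl, map_neg]
  have h0 : ρ (e * k * ρ k) = -(e * k * ρ k) := by simp only [map_mul, hel, T.D.invK]; ring
  refine ((hall (e * k * f (ρ k), e * k * f (f (ρ k)))).add (T.roots hpp h0) fun x => ?_).congr fun x => ?_
  · simp [hpp]
  · simp only [LinearMap.add_apply, root_apply, rad_apply, tvm_apply, T.D.smul_left]
    rw [← algebraMap_smul K (l * Algebra.trace F K (ρ k * h p x)) (k • p), smul_smul, ← add_smul, map_mul, htr,
      ← he]
    congr 1
    have hfe : f e = e := by rw [he, AlgHom.commutes]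
    simp only [cmap_apply, map_mul, Q.comm, Q.invol, Q.five, hel, map_neg, hfe]
    ring

/-- The transvection group is contained. -/
theorem tv_le (hm : ∃ g ∈ G, ∃ (u : V) (k : K), h u u = 0 ∧ g (k • u) ∉ K ∙ g u) : Herm.tvGroup B ≤ G := by
  obtain ⟨f, Q, htr⟩ := T.exists_quint
  obtain ⟨p, hp, hpp, hall⟩ := T.cmap_mem hm Q htr
  exact T.tv_le_of_line hp hpp (T.centre_line hpp Q htr hall)

/-- An overgroup is semilinear or contains all transvections. -/
theorem dichotomy : (∀ g ∈ G, ∀ k : K, ∃ a : K, ∀ v, g (k • v) = a • g v) ∨ Herm.tvGroup B ≤ G := by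
  by_cases hm : ∀ g ∈ G, ∀ (u : V) (k : K), h u u = 0 → g (k • u) ∈ K ∙ g u
  · exact Or.inl fun g hg => T.semilinear (hm g hg)
  · push Not at hm
    exact Or.inr (T.tv_le hm)

end IsTwo

end Cfsg.Lib.Linear.UExt
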